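import Cfsg.Agent.InvAb.Main
import Cfsg.Agent.TwoFusion.BSWRecognition
import Cfsg.Agent.Linear.Torus
import Cfsg.Agent.Transfer.Hall
import Mathlib.LinearAlgebra.Projectivization.PSL.PSL2

/-!
# Identification of the groups with abelian involution centralisers
-/

set_option autoImplicit false

namespace Cfsg.Agent.InvAb

open TwoFusion
open scoped MatrixGroups

universe u

theorem exists_iso_of_setup {G : Type u} [Group G] [Finite G] {T : Sylow 2 G} (h : Setup T) :
    ∃ (F : Type) (_ : Field F) (_ : Fintype F) (A : Type) (_ : CommGroup A) (_ : Finite A),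
      CharP F 2 ∧ Odd (Nat.card A) ∧ Nonempty (G ≃* Matrix.SpecialLinearGroup (Fin 2) F × A) := by
  classical
  obtain ⟨Tq, hb⟩ := h.bsw_quot h.sq_mem_center
  obtain ⟨F, _, _, hF, ⟨e⟩⟩ := BSWRec.is_psl_two hb
  have h4 : 4 ≤ Fintype.card F := by rw [hF]; exact BSW.four_le_card hb
  obtain ⟨k, hk⟩ := IsPGroup.iff_card.1 Tq.isPGroup'
  change Fintype.card F = Nat.card (Tq : Subgroup (G ⧸ Subgroup.center G)) at hF
  rw [hk] at hF
  have h2 : (2 : F) = 0 := by
    have := Nat.cast_card_eq_zero F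
    rw [hF, Nat.cast_pow, Nat.cast_ofNat] at this
    exact eq_zero_of_pow_eq_zero this
  haveI hchar : CharP F 2 := (CharP.charP_iff_prime_eq_zero Nat.prime_two).2 (by simpa using h2)
  have hsq : ∀ r : F, r * r = 1 → r = 1 := fun r hr => by
    have : (r - 1) * (r - 1) = 0 := by linear_combination hr - (r - 1) * h2
    exact sub_eq_zero.1 (mul_self_eq_zero.1 this)
  have hcenter : Subgroup.center SL(2, F) = ⊥ := by
    rw [eq_bot_iff]
    intro x hx
    obtain ⟨r, hr, hrx⟩ := Matrix.SpecialLinearGroup.mem_center_iff.1 hx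
    rw [Fintype.card_fin, pow_two] at hr
    rw [hsq r hr] at hrx
    rw [Subgroup.mem_bot]
    apply Subtype.ext
    rw [← hrx]
    simp
  obtain ⟨a, ha0, ha⟩ : ∃ a : F, a ≠ 0 ∧ a ^ 2 ≠ 1 := by
    by_contra hcon
    push Not at hcon
    have hle : Fintype.card F ≤ 2 := by
      rw [← Finset.card_univ]
      refine (Finset.card_le_card (fun x _ => ?_)).trans (Finset.card_le_two (a := (0 : F)) (b := 1))
      by_cases hx : x = 0
      · simp [hx]
      · simp [hsq x (by rw [← pow_two]; exact hcon x hx)]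
    omega
  let e' : G ⧸ Subgroup.center G ≃* SL(2, F) :=
    e.trans ((QuotientGroup.quotientMulEquivOfEq hcenter).trans QuotientGroup.quotientBot)
  let f : G →* SL(2, F) := e'.toMonoidHom.comp (QuotientGroup.mk' (Subgroup.center G))
  have hf : Function.Surjective f := e'.surjective.comp (QuotientGroup.mk'_surjective _)
  have hker : ∀ g : G, f g = 1 ↔ g ∈ Subgroup.center G := fun g => by
    rw [← QuotientGroup.eq_one_iff g]
    exact e'.map_eq_one_iff
  set L := _root_.commutator G with hL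
  have hLmap : L.map f = ⊤ := by
    rw [hL, commutator_def, Subgroup.map_commutator, Subgroup.map_top_of_surjective f hf,
      ← commutator_def]
    exact Matrix.SL2.commutator_eq_top ha0 ha
  have hLZ : ∀ x ∈ L, x ∈ Subgroup.center G → x = 1 := by
    intro x hxL hxZ
    by_contra hx1
    obtain ⟨p, hp, hpx⟩ := Nat.exists_prime_and_dvd (fun he => hx1 (orderOf_eq_one_iff.1 he))
    haveI : Fact p.Prime := ⟨hp⟩
    have hp2 : p ≠ 2 := fun he => h.odd_center.not_two_dvd_nat
      (he ▸ hpx.trans (Subgroup.orderOf_dvd_natCard _ hxZ))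
    set y := x ^ (orderOf x / p) with hy
    have hyo : orderOf y = p := orderOf_pow_orderOf_div (orderOf_pos x).ne' hpx
    obtain ⟨P, hP⟩ := (IsPGroup.of_card (n := 1)
      (by rw [Nat.card_zpowers, hyo, pow_one]) : IsPGroup p (Subgroup.zpowers y)).exists_le_sylow
    have hyP : y ∈ (P : Subgroup G) := hP (Subgroup.mem_zpowers y)
    obtain ⟨R, hR⟩ := (P.isPGroup'.map f).exists_le_sylow
    haveI := Linear.isCyclic_sylow_SL_two p hp2 (fun hd => hp2 (by
      rw [hF] at hd
      exact (Nat.prime_dvd_prime_iff_eq hp Nat.prime_two).1 (hp.dvd_of_dvd_pow hd))) R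
    let g : (P : Subgroup G) →* (R : Subgroup SL(2, F)) :=
      (f.comp (P : Subgroup G).subtype).codRestrict _ fun s => hR ⟨s, s.2, rfl⟩
    have hcomm : IsMulCommutative (P : Subgroup G) := by
      refine ⟨⟨fun a b => commutative_of_cyclic_center_quotient g (fun s hs => ?_) a b⟩⟩
      have h1 : f (s : G) = 1 := congrArg Subtype.val (MonoidHom.mem_ker.1 hs)
      exact Subgroup.mem_center_iff.2 fun r =>
        Subtype.ext (Subgroup.mem_center_iff.1 ((hker s).1 h1) r)
    have hbot := Transfer.abelian_hall_inf_commutator_inf_center (P : Subgroup G) hcomm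
      P.card_coprime_index
    have : y = 1 := by
      rw [← Subgroup.mem_bot, ← hbot]
      exact ⟨⟨hyP, pow_mem hxL _⟩, pow_mem hxZ _⟩
    rw [this, orderOf_one] at hyo
    exact hp.ne_one hyo.symm
  let ψ : L ≃* SL(2, F) := MulEquiv.ofBijective (f.comp L.subtype) ⟨fun a b hab => by
      have h1 : f ((a : G)⁻¹ * b) = 1 := by
        rw [map_mul, map_inv, inv_mul_eq_one]; exact hab
      exact Subtype.ext (inv_mul_eq_one.1
        (hLZ _ (mul_mem (inv_mem a.2) b.2) ((hker _).1 h1))),
    fun s => by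
      obtain ⟨l, hl, hls⟩ := (hLmap ▸ Subgroup.mem_top s : s ∈ L.map f)
      exact ⟨⟨l, hl⟩, hls⟩⟩
  let φ : L × Subgroup.center G →* G := MonoidHom.mk' (fun p => (p.1 : G) * p.2) fun p q => by
    show (p.1 : G) * q.1 * ((p.2 : G) * q.2) = (p.1 : G) * p.2 * ((q.1 : G) * q.2)
    rw [mul_assoc, ← mul_assoc (q.1 : G), Subgroup.mem_center_iff.1 p.2.2 (q.1 : G)]
    simp [mul_assoc]
  have hφ : Function.Bijective φ := by
    constructor
    · intro p q hpq
      have hpq' : (p.1 : G) * p.2 = (q.1 : G) * q.2 := hpq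
      have h1 : (q.1 : G)⁻¹ * p.1 = (q.2 : G) * (p.2 : G)⁻¹ := by
        rw [eq_mul_inv_iff_mul_eq, mul_assoc, hpq', inv_mul_cancel_left]
      have h2 : (q.1 : G)⁻¹ * p.1 = 1 :=
        hLZ _ (mul_mem (inv_mem q.1.2) p.1.2) (h1 ▸ mul_mem q.2.2 (inv_mem p.2.2))
      have h3 : (q.1 : G) = p.1 := inv_mul_eq_one.1 h2
      refine Prod.ext (Subtype.ext h3.symm) (Subtype.ext ?_)
      rw [h3] at hpq'
      exact mul_left_cancel hpq'
    · intro g
      obtain ⟨l, hl⟩ := ψ.surjective (f g)
      have h1 : f ((l : G)⁻¹ * g) = 1 := by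
        rw [map_mul, map_inv, show f (l : G) = f g from hl, inv_mul_cancel]
      exact ⟨(l, ⟨_, (hker _).1 h1⟩), mul_inv_cancel_left _ _⟩
  letI : CommGroup (Subgroup.center G) :=
    { (inferInstance : Group (Subgroup.center G)) with
      mul_comm := fun a b => Subtype.ext (Subgroup.mem_center_iff.1 b.2 a) }
  haveI : Finite (Shrink.{0} (Subgroup.center G)) := Finite.of_equiv _ (equivShrink.{0} _)
  refine ⟨F, inferInstance, inferInstance, Shrink.{0} (Subgroup.center G), inferInstance,
    inferInstance, hchar, ?_, ⟨?_⟩⟩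
  · rw [Nat.card_congr (equivShrink.{0} (Subgroup.center G)).symm]; exact h.odd_center
  · exact (MulEquiv.ofBijective φ hφ).symm.trans (ψ.prodCongr Shrink.mulEquiv.symm)

end Cfsg.Agent.InvAb
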