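import Cfsg.Agent.TwoFusion.BSW
import Cfsg.Agent.S4477
import Cfsg.Agent.Char.Integrality

/-!
# Groups in which the centraliser of every involution is abelian: first facts
-/

set_option autoImplicit false

namespace Cfsg.Agent.InvAb

open TwoFusion

universe u

variable {G : Type u} [Group G] [Finite G] {T : Sylow 2 G}

/-- Elements commuting with a common involution commute. -/
def InvComm (G : Type u) [Group G] : Prop :=
  ∀ t : G, orderOf t = 2 → ∀ a b : G, a * t = t * a → b * t = t * b → a * b = b * a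

/-- The standing hypotheses. -/
structure Setup (T : Sylow 2 G) : Prop where
  inv : InvComm G
  nc : ¬ IsCyclic (T : Subgroup G)
  nn : ¬ (T : Subgroup G).Normal

/-- `C_G(T)`. -/
abbrev cA (T : Sylow 2 G) : Subgroup G := Subgroup.centralizer ((T : Subgroup G) : Set G)

/-- `N_G(T)`. -/
abbrev mM (T : Sylow 2 G) : Subgroup G := Subgroup.normalizer ((T : Subgroup G) : Set G)

omit [Finite G] in
theorem InvComm.subgroup (h : InvComm G) (H : Subgroup G) : InvComm H := fun t ht a b ha hb =>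
  Subtype.ext (h t (by rw [Subgroup.orderOf_coe]; exact ht) a b (congrArg Subtype.val ha)
    (congrArg Subtype.val hb))

omit [Finite G] in
theorem cA_le_mM (T : Sylow 2 G) : cA T ≤ mM T := by
  intro c hc
  rw [Subgroup.mem_normalizer_iff]
  intro x
  constructor
  · intro hx
    rw [← Subgroup.mem_centralizer_iff.1 hc x hx, mul_inv_cancel_right]
    exact hx
  · intro hx
    have h1 := Subgroup.mem_centralizer_iff.1 hc _ hx
    have h2 : c * x * c⁻¹ = x := by
      rw [inv_mul_cancel_right] at h1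
      exact (mul_left_cancel h1).symm
    rw [← h2]; exact hx

theorem Setup.exists_central (h : Setup T) :
    ∃ z ∈ (T : Subgroup G), orderOf z = 2 ∧ ∀ x ∈ (T : Subgroup G), x * z = z * x := by
  haveI : Nontrivial (T : Subgroup G) := by
    by_contra hcon
    rw [not_nontrivial_iff_subsingleton] at hcon
    exact h.nc inferInstance
  haveI := T.isPGroup'.center_nontrivial
  obtain ⟨k, hk⟩ := IsPGroup.iff_card.1 (T.isPGroup'.to_subgroup (Subgroup.center (T : Subgroup G)))
  have hk1 : k ≠ 0 := by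
    rintro rfl
    exact absurd hk (Finite.one_lt_card (α := Subgroup.center (T : Subgroup G))).ne'
  obtain ⟨z, hz⟩ := exists_prime_orderOf_dvd_card' (G := Subgroup.center (T : Subgroup G)) 2
    (by rw [hk]; exact dvd_pow_self 2 hk1)
  refine ⟨(z : (T : Subgroup G)).1, (z : (T : Subgroup G)).2, ?_, fun x hx => ?_⟩
  · rw [Subgroup.orderOf_coe, Subgroup.orderOf_coe]; exact hz
  · exact congrArg Subtype.val (Subgroup.mem_center_iff.1 z.2 ⟨x, hx⟩)

theorem Setup.T_comm (h : Setup T) :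
    ∀ a ∈ (T : Subgroup G), ∀ b ∈ (T : Subgroup G), a * b = b * a := by
  obtain ⟨z, -, hz, hc⟩ := h.exists_central
  exact fun a ha b hb => h.inv z hz a b (hc a ha) (hc b hb)

theorem Setup.T_le_cA (h : Setup T) : (T : Subgroup G) ≤ cA T := fun a ha =>
  Subgroup.mem_centralizer_iff.2 fun x hx => h.T_comm x hx a ha

theorem Setup.centralizer_eq (h : Setup T) {t : G} (ht : orderOf t = 2)
    (htT : t ∈ (T : Subgroup G)) : Subgroup.centralizer ({t} : Set G) = cA T := by
  refine le_antisymm (fun c hc => Subgroup.mem_centralizer_iff.2 fun x hx => ?_) fun c hc => ?_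
  · exact h.inv t ht x c (h.T_comm x hx t htT) (Subgroup.mem_centralizer_singleton_iff.1 hc)
  · exact Subgroup.mem_centralizer_singleton_iff.2 (Subgroup.mem_centralizer_iff.1 hc t htT).symm

theorem Setup.cA_comm (h : Setup T) : ∀ a ∈ cA T, ∀ b ∈ cA T, a * b = b * a := by
  obtain ⟨z, hzT, hz, -⟩ := h.exists_central
  exact fun a ha b hb => h.inv z hz a b (Subgroup.mem_centralizer_iff.1 ha z hzT).symm
    (Subgroup.mem_centralizer_iff.1 hb z hzT).symm

omit [Finite G] in
theorem conj_mem_cA {m a : G} (hm : m ∈ mM T) (ha : a ∈ cA T) : m * a * m⁻¹ ∈ cA T := by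
  refine Subgroup.mem_centralizer_iff.2 fun x hx => ?_
  have hx' : m⁻¹ * x * m ∈ (T : Subgroup G) := (Subgroup.mem_normalizer_iff''.1 hm x).1 hx
  have h1 := Subgroup.mem_centralizer_iff.1 ha _ hx'
  calc x * (m * a * m⁻¹) = m * (m⁻¹ * x * m * a) * m⁻¹ := by group
    _ = m * (a * (m⁻¹ * x * m)) * m⁻¹ := by rw [h1]
    _ = m * a * m⁻¹ * x := by group

theorem mem_T_of_mem_mM {t : G} (ht : orderOf t = 2) (htM : t ∈ mM T) : t ∈ (T : Subgroup G) :=
  BSW.inv_mem_T ht htM

theorem Setup.mem_of_conj (h : Setup T) {t g : G} (ht : orderOf t = 2)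
    (htT : t ∈ (T : Subgroup G)) (hg : g * t * g⁻¹ ∈ (T : Subgroup G)) : g ∈ mM T := by
  have h2 := h.centralizer_eq ((orderOf_conj' g t).trans ht) hg
  rw [← map_conj_eq_self_iff_mem_normalizer]
  apply Subgroup.eq_of_le_of_card_ge
  · rintro x ⟨a, ha, rfl⟩
    have h3 : g * a * g⁻¹ ∈ cA T := by
      rw [← h2, Subgroup.mem_centralizer_singleton_iff]
      simpa [mul_assoc] using congrArg (fun y => g * y * g⁻¹) (h.T_comm a ha t htT)
    refine BSW.two_elt_mem (cA_le_mM T h3) ?_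
    obtain ⟨k, hk⟩ := IsPGroup.iff_orderOf.1 T.isPGroup' ⟨a, ha⟩
    refine IsPGroup.of_card (n := k) ?_
    rw [Nat.card_zpowers]
    change orderOf (g * a * g⁻¹) = 2 ^ k
    rw [orderOf_conj', ← hk, Subgroup.orderOf_mk]
  · rw [card_map_conj]

theorem Setup.exists_outside (h : Setup T) : ∃ u : G, orderOf u = 2 ∧ u ∉ mM T := by
  obtain ⟨g, hg⟩ : ∃ g, g ∉ mM T := by
    by_contra hcon
    push Not at hcon
    exact h.nn (Subgroup.normalizer_eq_top_iff.1 (eq_top_iff.2 fun x _ => hcon x))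
  obtain ⟨z, hzT, hz, -⟩ := h.exists_central
  exact ⟨g * z * g⁻¹, (orderOf_conj' g z).trans hz, fun hu =>
    hg (h.mem_of_conj hz hzT (mem_T_of_mem_mM ((orderOf_conj' g z).trans hz) hu))⟩

theorem Setup.isConj_outside (h : Setup T) {t u : G} (ht : orderOf t = 2)
    (htT : t ∈ (T : Subgroup G)) (hu : orderOf u = 2) (huM : u ∉ mM T) : IsConj t u := by
  rcases Nat.even_or_odd (orderOf (t * u)) with hev | hodd
  · exfalso
    obtain ⟨c, hc, hct, hcu⟩ :=
      exists_involution_commute_of_even ht hu hev (orderOf_pos (t * u)).ne'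
    have hcA : c ∈ cA T := h.centralizer_eq ht htT ▸ Subgroup.mem_centralizer_singleton_iff.2 hct.eq
    have hcT := mem_T_of_mem_mM hc (cA_le_mM T hcA)
    exact huM (cA_le_mM T (h.centralizer_eq hc hcT ▸
      Subgroup.mem_centralizer_singleton_iff.2 hcu.symm.eq))
  · obtain ⟨v, -, hv, -⟩ := exists_involution_conj_of_odd ht hu hodd
    exact isConj_iff.2 ⟨v, hv⟩

theorem Setup.isConj (h : Setup T) {x y : G} (hx : orderOf x = 2) (hy : orderOf y = 2) :
    IsConj x y := by
  obtain ⟨u, hu, huM⟩ := h.exists_outside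
  obtain ⟨z, hzT, hz, -⟩ := h.exists_central
  have key : ∀ w : G, orderOf w = 2 → IsConj z w := fun w hw => by
    by_cases hwM : w ∈ mM T
    · exact (h.isConj_outside hz hzT hu huM).trans
        (h.isConj_outside hw (mem_T_of_mem_mM hw hwM) hu huM).symm
    · exact h.isConj_outside hz hzT hw hwM
  exact (key x hx).symm.trans (key y hy)

theorem Setup.trans_T (h : Setup T) {s t : G} (hs : orderOf s = 2) (hsT : s ∈ (T : Subgroup G))
    (ht : orderOf t = 2) (htT : t ∈ (T : Subgroup G)) : ∃ m ∈ mM T, m * s * m⁻¹ = t := by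
  obtain ⟨g, hg⟩ := isConj_iff.1 (h.isConj hs ht)
  exact ⟨g, h.mem_of_conj hs hsT (hg.symm ▸ htT), hg⟩

theorem Setup.no_central_involution (h : Setup T) {s : G} (hs : orderOf s = 2) :
    s ∉ Subgroup.center G := by
  intro hc
  have hcomm : ∀ a b : G, a * b = b * a := fun a b =>
    h.inv s hs a b (Subgroup.mem_center_iff.1 hc a) (Subgroup.mem_center_iff.1 hc b)
  refine h.nn ⟨fun n hn g => ?_⟩
  rw [hcomm g n, mul_inv_cancel_right]
  exact hn

theorem Setup.odd_center (h : Setup T) : Odd (Nat.card (Subgroup.center G)) := by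
  rw [← Nat.not_even_iff_odd, even_iff_two_dvd]
  intro hd
  obtain ⟨s, hs⟩ := exists_prime_orderOf_dvd_card' (G := Subgroup.center G) 2 hd
  exact h.no_central_involution (s := (s : G)) (by rw [Subgroup.orderOf_coe]; exact hs) s.2

theorem Setup.two_le_involutions (h : Setup T) :
    2 ≤ Nat.card {a : G // a ∈ cA T ∧ orderOf a = 2} := by
  classical
  by_contra hlt
  push Not at hlt
  obtain ⟨z, hzT, hz, -⟩ := h.exists_central
  haveI : Subsingleton {a : G // a ∈ cA T ∧ orderOf a = 2} :=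
    Finite.card_le_one_iff_subsingleton.1 (by omega)
  have huniq : ∀ x : (T : Subgroup G), orderOf x = 2 → x = ⟨z, hzT⟩ := fun x hx => by
    have h1 : orderOf (x : G) = 2 := by rw [Subgroup.orderOf_coe]; exact hx
    have h2 : (⟨(x : G), h.T_le_cA x.2, h1⟩ : {a : G // a ∈ cA T ∧ orderOf a = 2}) =
        ⟨z, h.T_le_cA hzT, hz⟩ := Subsingleton.elim _ _
    apply Subtype.ext
    exact congrArg (fun a : {a : G // a ∈ cA T ∧ orderOf a = 2} => a.1) h2
  have hz' : orderOf (⟨z, hzT⟩ : (T : Subgroup G)) = 2 := by rw [Subgroup.orderOf_mk]; exact hz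
  have hone : Nat.card {x : (T : Subgroup G) // orderOf x = 2} = 1 :=
    Nat.card_eq_one_iff_unique.2 ⟨⟨fun a b => Subtype.ext ((huniq _ a.2).trans (huniq _ b.2).symm)⟩,
      ⟨⟨⟨z, hzT⟩, hz'⟩⟩⟩
  rcases Cfsg.Agent.S4477.result T.isPGroup' (by rw [hone]) with hc | hidx
  · exact h.nc hc
  · have hbot : _root_.commutator (T : Subgroup G) = ⊥ := by
      rw [commutator_def, Subgroup.commutator_eq_bot_iff_le_centralizer]
      intro a _
      exact Subgroup.mem_centralizer_iff.2 fun b _ => Subtype.ext (h.T_comm b b.2 a a.2)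
    rw [hbot, Subgroup.index_bot] at hidx
    haveI : Fintype (T : Subgroup G) := Fintype.ofFinite _
    have hall : ∀ x : (T : Subgroup G), x = 1 ∨ x = ⟨z, hzT⟩ := fun x => by
      by_cases h1 : x = 1
      · exact Or.inl h1
      refine Or.inr (huniq x ?_)
      have hd := orderOf_dvd_natCard x
      rw [hidx] at hd
      obtain ⟨k, hk, hk'⟩ := (Nat.dvd_prime_pow Nat.prime_two).1 (show orderOf x ∣ 2 ^ 2 from hd)
      interval_cases k
      · exact absurd (orderOf_eq_one_iff.1 hk') h1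
      · exact hk'
      · exact absurd (isCyclic_of_orderOf_eq_card x (by rw [hidx, hk']; rfl)) h.nc
    have hle : Nat.card (T : Subgroup G) ≤ 2 := by
      rw [Nat.card_eq_fintype_card, ← Finset.card_univ]
      refine (Finset.card_le_card (fun x _ => ?_)).trans
        (Finset.card_le_two (a := (1 : (T : Subgroup G))) (b := ⟨z, hzT⟩))
      rcases hall x with h | h <;> simp [h]
    omega

theorem Setup.relIndex_eq (h : Setup T) :
    (cA T).relIndex (mM T) = Nat.card {a : G // a ∈ cA T ∧ orderOf a = 2} := by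
  classical
  obtain ⟨z, hzT, hz, -⟩ := h.exists_central
  haveI : Fintype (mM T) := Fintype.ofFinite _
  set z' : mM T := ⟨z, Subgroup.le_normalizer hzT⟩ with hz'
  have h1 := Char.card_isConj_eq_index z'
  have h2 : Subgroup.centralizer ({z'} : Set (mM T)) = (cA T).subgroupOf (mM T) := by
    ext x
    rw [Subgroup.mem_centralizer_singleton_iff, Subgroup.mem_subgroupOf, ← h.centralizer_eq hz hzT,
      Subgroup.mem_centralizer_singleton_iff]
    exact ⟨fun e => congrArg Subtype.val e, fun e => Subtype.ext e⟩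
  rw [h2] at h1
  rw [Subgroup.relIndex, ← h1, ← Fintype.card_subtype, ← Nat.card_eq_fintype_card]
  refine Nat.card_congr (Equiv.ofBijective (fun x => ⟨(x.1 : G), ?_⟩) ⟨?_, ?_⟩)
  · obtain ⟨c, hc⟩ := isConj_iff.1 x.2
    have e : (x.1 : G) = (c : G) * z * (c : G)⁻¹ := (congrArg Subtype.val hc).symm
    rw [e]
    exact ⟨conj_mem_cA c.2 (h.T_le_cA hzT), (orderOf_conj' _ _).trans hz⟩
  · intro a b hab
    exact Subtype.ext (Subtype.ext (congrArg (fun y : {a : G // a ∈ cA T ∧ orderOf a = 2} => y.1) hab))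
  · intro a
    have haT := mem_T_of_mem_mM a.2.2 (cA_le_mM T a.2.1)
    obtain ⟨m, hm, hms⟩ := h.trans_T hz hzT a.2.2 haT
    exact ⟨⟨⟨a.1, Subgroup.le_normalizer haT⟩, isConj_iff.2 ⟨⟨m, hm⟩, Subtype.ext hms⟩⟩,
      Subtype.ext rfl⟩

theorem Setup.odd_relIndex (h : Setup T) : Odd ((cA T).relIndex (mM T)) := by
  classical
  rw [h.relIndex_eq]
  let Om : Subgroup G :=
    { carrier := {a | a ∈ cA T ∧ a * a = 1}
      one_mem' := ⟨one_mem _, one_mul 1⟩
      mul_mem' := by
        rintro a b ⟨ha, ha2⟩ ⟨hb, hb2⟩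
        refine ⟨mul_mem ha hb, ?_⟩
        rw [mul_assoc, ← mul_assoc b a b, h.cA_comm b hb a ha, mul_assoc a b b, hb2, mul_one, ha2]
      inv_mem' := by
        rintro a ⟨ha, ha2⟩
        refine ⟨inv_mem ha, ?_⟩
        rw [← mul_inv_rev, ha2, inv_one] }
  haveI : Fintype Om := Fintype.ofFinite _
  have h1 : Nat.card {a : Om // a ≠ 1} = Nat.card {a : G // a ∈ cA T ∧ orderOf a = 2} := by
    refine Nat.card_congr
      { toFun := fun a => ⟨(a.1 : G), a.1.2.1, orderOf_eq_prime (by rw [pow_two]; exact a.1.2.2)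
          fun e => a.2 (Subtype.ext e)⟩
        invFun := fun x => ⟨⟨x.1, x.2.1, involution_mul_self x.2.2⟩, fun e =>
          involution_ne_one x.2.2 (congrArg Subtype.val e)⟩
        left_inv := fun a => rfl
        right_inv := fun x => rfl }
  obtain ⟨z, hzT, hz, -⟩ := h.exists_central
  have h2 : 2 ∣ Nat.card Om := by
    have := Subgroup.orderOf_dvd_natCard Om
      (show z ∈ Om from ⟨h.T_le_cA hzT, involution_mul_self hz⟩)
    rwa [hz] at this
  rw [← h1, Nat.card_eq_fintype_card, Fintype.card_subtype_compl, Fintype.card_subtype_eq,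
    ← Nat.card_eq_fintype_card]
  obtain ⟨k, hk⟩ := h2
  have := Nat.card_pos (α := Om)
  exact ⟨k - 1, by omega⟩

/-! ### Subgroups containing `C(T)` -/

theorem Setup.restrict (h : Setup T) {H : Subgroup G} (hA : cA T ≤ H) (hH : ¬ H ≤ mM T) :
    ∃ TH : Sylow 2 H, Setup TH ∧ ∀ x : H, x ∈ (TH : Subgroup H) ↔ (x : G) ∈ (T : Subgroup G) := by
  have hTH : (T : Subgroup G) ≤ H := h.T_le_cA.trans hA
  refine ⟨T.subtype hTH, ⟨h.inv.subgroup H, fun hc => h.nc ?_, fun hn => hH fun g hg => ?_⟩, ?_⟩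
  · rw [Sylow.coe_subtype] at hc
    exact (Subgroup.subgroupOfEquivOfLe hTH).isCyclic.1 hc
  · rw [Sylow.coe_subtype] at hn
    rw [Subgroup.mem_normalizer_iff]
    intro x
    constructor
    · intro hx
      exact hn.conj_mem ⟨x, hTH hx⟩ hx ⟨g, hg⟩
    · intro hx
      have h1 := hn.conj_mem ⟨g * x * g⁻¹, hTH hx⟩ hx (⟨g, hg⟩⁻¹)
      simpa [Subgroup.mem_subgroupOf, mul_assoc] using h1
  · intro x; rw [Sylow.coe_subtype]; exact Subgroup.mem_subgroupOf

theorem Setup.over_trans (h : Setup T) {H : Subgroup G} (hA : cA T ≤ H) (hH : ¬ H ≤ mM T)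
    {s : G} (hs : orderOf s = 2) (hsT : s ∈ (T : Subgroup G)) {x : G} (hx : orderOf x = 2)
    (hxH : x ∈ H) : ∃ c ∈ H, c * s * c⁻¹ = x := by
  obtain ⟨TH, hTH, -⟩ := h.restrict hA hH
  have hsH : s ∈ H := hA (h.T_le_cA hsT)
  obtain ⟨c, hc⟩ := isConj_iff.1 (hTH.isConj (x := ⟨s, hsH⟩) (y := ⟨x, hxH⟩)
    (by rw [Subgroup.orderOf_mk]; exact hs) (by rw [Subgroup.orderOf_mk]; exact hx))
  exact ⟨c, c.2, congrArg Subtype.val hc⟩

theorem Setup.over_mem_of_conj (h : Setup T) {H : Subgroup G} (hA : cA T ≤ H) (hH : ¬ H ≤ mM T)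
    {x g : G} (hx : orderOf x = 2) (hxH : x ∈ H) (hg : g * x * g⁻¹ ∈ H) : g ∈ H := by
  obtain ⟨z, hzT, hz, -⟩ := h.exists_central
  obtain ⟨c, hc, hcx⟩ := h.over_trans hA hH hz hzT hx hxH
  obtain ⟨d, hd, hdx⟩ := h.over_trans hA hH hz hzT ((orderOf_conj' g x).trans hx) hg
  have h1 : d⁻¹ * g * c ∈ cA T := by
    rw [← h.centralizer_eq hz hzT, Subgroup.mem_centralizer_singleton_iff]
    have h2 : d * z * d⁻¹ = g * (c * z * c⁻¹) * g⁻¹ := by rw [hcx, hdx]
    calc d⁻¹ * g * c * z = d⁻¹ * (g * (c * z * c⁻¹) * g⁻¹) * g * c := by group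
      _ = d⁻¹ * (d * z * d⁻¹) * g * c := by rw [h2]
      _ = z * (d⁻¹ * g * c) := by group
  have h3 := mul_mem (mul_mem hd (hA h1)) (inv_mem hc)
  simpa [mul_assoc] using h3

theorem Setup.over_mM_le (h : Setup T) {H : Subgroup G} (hA : cA T ≤ H) (hH : ¬ H ≤ mM T) :
    mM T ≤ H := by
  intro m hm
  obtain ⟨z, hzT, hz, -⟩ := h.exists_central
  refine h.over_mem_of_conj hA hH hz (hA (h.T_le_cA hzT)) (hA (h.T_le_cA ?_))
  exact (Subgroup.mem_normalizer_iff.1 hm z).1 hzT

theorem Setup.over_normal (h : Setup T) {H : Subgroup G} [H.Normal] (hA : cA T ≤ H)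
    (hH : ¬ H ≤ mM T) : H = ⊤ := by
  obtain ⟨z, hzT, hz, -⟩ := h.exists_central
  have hzH : z ∈ H := hA (h.T_le_cA hzT)
  exact eq_top_iff.2 fun g _ =>
    h.over_mem_of_conj hA hH hz hzH (Subgroup.Normal.conj_mem inferInstance z hzH g)

theorem Setup.over_stronglyEmbedded (h : Setup T) {H : Subgroup G} (hA : cA T ≤ H)
    (hH : ¬ H ≤ mM T) (hne : H ≠ ⊤) : Cfsg.IsStronglyEmbedded H := by
  obtain ⟨z, hzT, hz, -⟩ := h.exists_central
  refine ⟨hne, ?_, fun g hg => ?_⟩
  · rw [even_iff_two_dvd]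
    have := Subgroup.orderOf_dvd_natCard H (hA (h.T_le_cA hzT))
    rwa [hz] at this
  · rw [← Nat.not_even_iff_odd, even_iff_two_dvd]
    intro hd
    obtain ⟨⟨x, hx12⟩, hx⟩ := exists_prime_orderOf_dvd_card'
      (G := ↥(H ⊓ H.map (MulAut.conj g).toMonoidHom)) 2 hd
    have hx' : orderOf x = 2 := by rw [← hx, ← Subgroup.orderOf_coe]
    have hx2 : g⁻¹ * x * g ∈ H := mem_map_conj_iff.1 hx12.2
    have h1 := h.over_mem_of_conj hA hH (g := g⁻¹) hx' hx12.1 (by rw [inv_inv]; exact hx2)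
    exact hg (by simpa using inv_mem h1)

end Cfsg.Agent.InvAb
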