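import Cfsg.Agent.TwoFusion.BSW

/-!
# No subgroup of odd order is transitive on the involutions in the elementary abelian case
-/

set_option autoImplicit false

namespace Cfsg.Agent.InvAb

open TwoFusion

variable {G : Type*} [Group G] [Finite G] {T : Sylow 2 G}

/-- An element of `N(T)` outside `T` fixes a coset other than that of `1`. -/
theorem exists_other_fixed (h : BSW.Hyp T) {x : G} (hx : x ∈ BSW.nT T)
    (hxT : x ∉ (T : Subgroup G)) :
    ∃ a : G, a ∉ BSW.nT T ∧ x • (QuotientGroup.mk a : G ⧸ BSW.nT T) = QuotientGroup.mk a := by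
  obtain ⟨a, ha⟩ := BSW.exists_not_mem h
  obtain ⟨d, hd, s, hs, rfl⟩ := BSW.exists_decomp h ha hx
  have hd1 : d ≠ 1 := fun e => hxT (by rw [e, one_mul]; exact hs)
  have hmem : ∀ r : (T : Subgroup G), d⁻¹ * r * d * (r : G)⁻¹ ∈ (T : Subgroup G) := fun r =>
    mul_mem ((Subgroup.mem_normalizer_iff''.1 hd.1 r).1 r.2) (inv_mem r.2)
  let f : ↥(T : Subgroup G) → ↥(T : Subgroup G) := fun r => ⟨_, hmem r⟩
  have hinj : Function.Injective f := by
    intro r r' hrr
    have e : d⁻¹ * r * d * (r : G)⁻¹ = d⁻¹ * r' * d * (r' : G)⁻¹ := congrArg Subtype.val hrr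
    have e2 : d⁻¹ * ((r' : G)⁻¹ * r) * d = (r' : G)⁻¹ * r := by
      have e3 : d⁻¹ * r * d = d⁻¹ * r' * d * (r' : G)⁻¹ * r := by rw [← e]; group
      calc d⁻¹ * ((r' : G)⁻¹ * r) * d = (d⁻¹ * r' * d)⁻¹ * (d⁻¹ * r * d) := by group
        _ = (r' : G)⁻¹ * r := by rw [e3]; group
    have e4 := BSW.eq_one_of_commute h ha hd hd1 (mul_mem (inv_mem r'.2) r.2) (by
      calc d * ((r' : G)⁻¹ * r) = d * (d⁻¹ * ((r' : G)⁻¹ * r) * d) := by rw [e2]
        _ = (r' : G)⁻¹ * r * d := by group)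
    exact Subtype.ext (inv_mul_eq_one.1 e4).symm
  obtain ⟨r, hr⟩ := (Finite.injective_iff_surjective.1 hinj) ⟨s, hs⟩
  have hr' : d⁻¹ * r * d * (r : G)⁻¹ = s := congrArg Subtype.val hr
  refine ⟨(r : G) * a, fun hm => ha ?_, ?_⟩
  · have := mul_mem (inv_mem (BSW.le_nT r.2)) hm
    simpa using this
  · rw [BSW.smul_mk_iff, ← hr', show ((r : G) * a)⁻¹ * (d * (d⁻¹ * r * d * (r : G)⁻¹)) * ((r : G) * a)
      = a⁻¹ * d * a by group]
    exact mem_map_conj_iff.1 hd.2

theorem no_odd_transitive (h : BSW.Hyp T) (O : Subgroup G) (hO : Odd (Nat.card O))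
    (htr : ∀ x y : G, orderOf x = 2 → orderOf y = 2 → ∃ o ∈ O, o * x * o⁻¹ = y) : False := by
  classical
  obtain ⟨t, htT, ht, -⟩ := BSW.exists_central_involution h
  set x1 : G ⧸ BSW.nT T := QuotientGroup.mk 1 with hx1
  have hO2 : ∀ o ∈ O, o ∈ (T : Subgroup G) → o = 1 := by
    intro o ho hoT
    by_contra h1
    have h2 := Subgroup.orderOf_dvd_natCard O ho
    rw [BSW.involution_of_mem h hoT h1] at h2
    exact hO.not_two_dvd_nat h2
  -- `O` is transitive on the cosets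
  have htrans : ∀ p : G ⧸ BSW.nT T, ∃ o ∈ O, o • x1 = p := by
    intro p
    induction p using QuotientGroup.induction_on with | _ g => ?_
    obtain ⟨o, ho, hog⟩ := htr t (g * t * g⁻¹) ht ((orderOf_conj' g t).trans ht)
    refine ⟨o, ho, BSW.smul_mk_iff.2 ?_⟩
    rw [mul_one]
    refine BSW.le_nT ?_
    rw [← BSW.centralizer_eq h ht htT, Subgroup.mem_centralizer_singleton_iff]
    calc g⁻¹ * o * t = g⁻¹ * (o * t * o⁻¹) * o := by group
      _ = t * (g⁻¹ * o) := by rw [hog]; group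
  -- the stabiliser is abelian
  obtain ⟨a, ha⟩ := BSW.exists_not_mem h
  have hcomm : ∀ x ∈ O, x ∈ BSW.nT T → ∀ y ∈ O, y ∈ BSW.nT T → x * y = y * x := by
    intro x hxO hx y hyO hy
    obtain ⟨d, hd, r, hr, hxe⟩ := BSW.exists_decomp h ha hx
    obtain ⟨e, he, s, hs, hye⟩ := BSW.exists_decomp h ha hy
    have hde := BSW.dD_comm' h ha hd he
    set c := x * y * (y * x)⁻¹ with hc
    have hcO : c ∈ O := mul_mem (mul_mem hxO hyO) (inv_mem (mul_mem hyO hxO))
    have hcT : c ∈ (T : Subgroup G) := by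
      have hn : ∀ k ∈ BSW.nT T, ∀ r ∈ (T : Subgroup G), k * r * k⁻¹ ∈ (T : Subgroup G) :=
        fun k hk r hr => (Subgroup.mem_normalizer_iff.1 hk r).1 hr
      have hn' : ∀ k ∈ BSW.nT T, ∀ r ∈ (T : Subgroup G), k⁻¹ * r * k ∈ (T : Subgroup G) :=
        fun k hk r hr => (Subgroup.mem_normalizer_iff''.1 hk r).1 hr
      have e1 : x * y = d * e * ((e⁻¹ * r * e) * s) := by rw [hxe, hye]; group
      have e2 : y * x = d * e * ((d⁻¹ * s * d) * r) := by rw [hxe, hye, hde]; group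
      have e3 : c = (d * e) * (((e⁻¹ * r * e) * s) * ((d⁻¹ * s * d) * r)⁻¹) * (d * e)⁻¹ := by
        rw [hc, e1, e2]; group
      rw [e3]
      exact hn _ (mul_mem hd.1 he.1) _ (mul_mem (mul_mem (hn' e he.1 r hr) hs)
        (inv_mem (mul_mem (hn' d hd.1 s hs) hr)))
    exact mul_inv_eq_one.1 (hO2 c hcO hcT)
  -- each nontrivial element of the stabiliser has exactly one further fixed coset
  have huniq : ∀ x ∈ O, x ∈ BSW.nT T → x ≠ 1 → ∀ p q : G ⧸ BSW.nT T, p ≠ x1 → q ≠ x1 →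
      x • p = p → x • q = q → p = q := by
    intro x hxO hx hx1' p q hp hq hxp hxq
    by_contra hpq
    exact hx1' (BSW.three_point_stabilizer h x (Ne.symm hp) (Ne.symm hq) hpq
      (BSW.mem_nT_iff_fix.1 hx) hxp hxq)
  have hexists : ∀ x ∈ O, x ∈ BSW.nT T → x ≠ 1 → ∃ p, p ≠ x1 ∧ x • p = p := by
    intro x hxO hx hx1'
    obtain ⟨b, hb, hfix⟩ := exists_other_fixed h hx (fun hT => hx1' (hO2 x hxO hT))
    exact ⟨_, fun e => hb (BSW.mk_eq_one_iff'.1 e), hfix⟩
  -- a nontrivial element of the stabiliser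
  obtain ⟨x0, hx0O, hx0N, hx0⟩ : ∃ x0 ∈ O, x0 ∈ BSW.nT T ∧ x0 ≠ 1 := by
    obtain ⟨s, hs, hs1, hst⟩ : ∃ s ∈ (T : Subgroup G), s ≠ 1 ∧ s ≠ t := by
      by_contra hcon
      push Not at hcon
      haveI : Fintype (T : Subgroup G) := Fintype.ofFinite _
      have h4 := BSW.four_le_card h
      have hle : Nat.card (T : Subgroup G) ≤ 2 := by
        rw [Nat.card_eq_fintype_card, ← Finset.card_univ]
        refine (Finset.card_le_card (fun x _ => ?_)).trans
          (Finset.card_le_two (a := (1 : (T : Subgroup G))) (b := ⟨t, htT⟩))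
        by_cases h1 : (x : G) = 1
        · have e : x = 1 := Subtype.ext h1
          simp [e]
        · have e : x = ⟨t, htT⟩ := Subtype.ext (hcon x x.2 h1)
          simp [e]
      change 4 ≤ Nat.card (T : Subgroup G) at h4
      omega
    obtain ⟨o, hoO, ho⟩ := htr t s ht (BSW.involution_of_mem h hs hs1)
    refine ⟨o, hoO, BSW.mem_of_ti h ht htT (ho.symm ▸ hs), fun e => hst ?_⟩
    rw [← ho, e]; group
  obtain ⟨y, hy, hxy⟩ := hexists x0 hx0O hx0N hx0
  have hfix0 : ∀ z ∈ O, z ∈ BSW.nT T → z • y = y := by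
    intro z hzO hz
    refine huniq x0 hx0O hx0N hx0 _ _ (fun e => hy ?_) hy ?_ hxy
    · have e2 := congrArg (fun w => z⁻¹ • w) e
      simp only [inv_smul_smul] at e2
      rw [e2, BSW.mem_nT_iff_fix.1 (inv_mem hz)]
    · rw [← mul_smul, hcomm x0 hx0O hx0N z hzO hz, mul_smul, hxy]
  choose o hoO hox using htrans
  let τ : G ⧸ BSW.nT T → G ⧸ BSW.nT T := fun p => o p • y
  have hτ : ∀ k ∈ O, τ (k • x1) = k • y := by
    intro k hk
    have h1 : (k⁻¹ * o (k • x1)) • x1 = x1 := by rw [mul_smul, hox, inv_smul_smul]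
    have h2 := hfix0 _ (mul_mem (inv_mem hk) (hoO _)) (BSW.mem_nT_iff_fix.2 h1)
    have h3 := congrArg (fun w => k • w) h2
    simpa [mul_smul, τ] using h3
  have hτy : τ y = x1 := by
    set k := o y
    have hk : k • x1 = y := hox y
    have h1 : (k⁻¹ * x0 * k) • x1 = x1 := by
      rw [mul_smul, mul_smul, hk, hxy, ← hk, inv_smul_smul]
    have h2 := hfix0 _ (mul_mem (mul_mem (inv_mem (hoO y)) hx0O) (hoO y))
      (BSW.mem_nT_iff_fix.2 h1)
    have h3 : x0 • (k • y) = k • y := by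
      have := congrArg (fun w => k • w) h2
      rwa [← mul_smul, ← mul_assoc, ← mul_assoc, mul_inv_cancel, one_mul, mul_smul] at this
    show k • y = x1
    by_contra hne
    have h4 := huniq x0 hx0O hx0N hx0 _ _ hne hy h3 hxy
    exact hy (MulAction.injective k (h4.trans hk.symm))
  have hinv : Function.Involutive τ := by
    intro p
    have h1 : τ p = (o p * o y) • x1 := by rw [mul_smul, hox y]
    rw [h1, hτ _ (mul_mem (hoO p) (hoO y)), mul_smul]
    show o p • τ y = p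
    rw [hτy, hox]
  have hne : ∀ p, τ p ≠ p := fun p e =>
    hy (MulAction.injective (o p) (e.trans (hox p).symm))
  haveI : Fintype (G ⧸ BSW.nT T) := Fintype.ofFinite _
  have hoddX : Odd (Fintype.card (G ⧸ BSW.nT T)) := by
    have h1 := BSW.card_outside h
    rw [Nat.card_eq_fintype_card, Fintype.card_subtype_compl, Fintype.card_subtype_eq] at h1
    obtain ⟨k, hk⟩ := IsPGroup.iff_card.1 T.isPGroup'
    have h4 := BSW.four_le_card h
    have hev : 2 ∣ Nat.card T := by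
      change 2 ∣ Nat.card (T : Subgroup G)
      change 4 ≤ Nat.card (T : Subgroup G) at h4
      rw [hk] at h4 ⊢
      exact dvd_pow_self 2 (by rintro rfl; simp at h4)
    have := Fintype.card_pos (α := G ⧸ BSW.nT T)
    obtain ⟨m, hm⟩ := hev
    exact ⟨m, by omega⟩
  have hs : (∑ _p : G ⧸ BSW.nT T, (1 : ZMod 2)) = 0 :=
    Finset.sum_involution (fun p _ => τ p) (fun p _ => by decide) (fun p _ _ => hne p)
      (fun p _ => Finset.mem_univ _) (fun p _ => hinv p)
  rw [Finset.sum_const, Finset.card_univ, nsmul_one] at hs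
  exact hoddX.not_two_dvd_nat ((ZMod.natCast_eq_zero_iff_even.1 hs).two_dvd)

end Cfsg.Agent.InvAb
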