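import Cfsg.Agent.CharExt.AbelianTI
import Cfsg.Agent.CharExt.DihedralEight
import Cfsg.Agent.S0840

/-!
# A trivial intersection abelian subgroup containing one class of involutions

If the abelian subgroup `A` contains the centraliser of each of its non-identity elements, is a
trivial intersection set whose normaliser acts transitively on its `e` involutions, `e = [M : A]`,
and all involutions of `G` are conjugate, then the exceptional characters of `A` together with
the count of products of two involutions force `#A = e + 1`.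
-/

set_option autoImplicit false

namespace Cfsg.Agent.InvAb

open scoped ComplexConjugate
open Cfsg

universe u

theorem irr_involution_abs_le {G : Type u} [Group G] [Finite G] {χ : G → ℂ}
    (hχ : Cfsg.IsIrrCharacter G χ) {t : G} (ht : orderOf t = 2) :
    ∃ (z : ℤ) (d : ℕ), χ t = z ∧ χ 1 = d ∧ |z| ≤ (d : ℤ) := by
  obtain ⟨n, ρ, -, rfl⟩ := hχ
  obtain ⟨ε, hε, hpow⟩ := Char.exists_character_eq_sum_roots ρ t
  have h0 := hpow 0
  simp only [pow_zero, Finset.sum_const, nsmul_eq_mul, mul_one] at h0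
  have h1 := hpow 1
  simp only [pow_one] at h1
  have h2 : ∀ i, ∃ z : ℤ, ε i = z ∧ |z| ≤ 1 := fun i => by
    have h3 := hε i
    rw [ht, sq] at h3
    rcases mul_self_eq_one_iff.1 h3 with h | h
    · exact ⟨1, by simp [h], by norm_num⟩
    · exact ⟨-1, by simp [h], by norm_num⟩
  choose z hz hzle using h2
  refine ⟨∑ i, z i, _, ?_, h0, ?_⟩
  · rw [h1]; push_cast; exact Finset.sum_congr rfl fun i _ => hz i
  · refine (Finset.abs_sum_le_sum_abs _ _).trans ((Finset.sum_le_sum fun i _ => hzle i).trans ?_)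
    simp

theorem two_types {k e V ε : ℤ} (he : 2 ≤ e) (hk : 1 ≤ k) (hε : ε = 1 ∨ ε = -1)
    (h : k * (V + ε * (e + 1)) ^ 2 + (k * e + 1) * V ^ 2 ≤ (e + 1) * (k * e + 1)) :
    |V| ≤ 1 := by
  by_contra hV
  push Not at hV
  have hW : (e + 1 - |V|) ^ 2 ≤ (V + ε * (e + 1)) ^ 2 := by
    rcases hε with rfl | rfl <;> rcases le_or_gt 0 V with h0 | h0
    · rw [abs_of_nonneg h0]; nlinarith
    · rw [abs_of_neg h0]; nlinarith
    · rw [abs_of_nonneg h0]; nlinarith
    · rw [abs_of_neg h0]; nlinarith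
  have h2 : k * (e + 1 - |V|) ^ 2 + (k * e + 1) * |V| ^ 2 ≤ (e + 1) * (k * e + 1) := by
    rw [sq_abs]
    exact le_trans (by nlinarith) h
  have h3 : k * (e + 1) * (|V| - 1) ^ 2 + |V| ^ 2 ≤ e + 1 := by linarith [h2]
  have h4 : 1 ≤ (|V| - 1) ^ 2 := by nlinarith
  have h5 : e + 1 ≤ k * (e + 1) := by nlinarith
  have h6 : k * (e + 1) ≤ k * (e + 1) * (|V| - 1) ^ 2 :=
    le_mul_of_one_le_right (by nlinarith) h4
  nlinarith

theorem count_algebra {a i e D V ε : ℂ} (ha : a ≠ 0) (hi : i ≠ 0) (he : e ≠ 0) (hD : D ≠ 0)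
    (hε : ε * ε = 1) (he1 : e + 1 ≠ 0)
    (h : (a * i)⁻¹ * (ε * (i * i * ((V * V - (V + ε * (e + 1)) * (V + ε * (e + 1))) / D))) =
      (a * e)⁻¹ * ((e - 1) * e * (-1 - e))) :
    i * (2 * V + ε * (e + 1)) = (e - 1) * D := by
  have hl : (a * i)⁻¹ * (ε * (i * i * ((V * V - (V + ε * (e + 1)) * (V + ε * (e + 1))) / D))) =
      -((ε * ε) * (i * (2 * V + ε * (e + 1)) * (e + 1))) / (a * D) := by
    field_simp
    ring
  have hr : (a * e)⁻¹ * ((e - 1) * e * (-1 - e)) = -((e - 1) * (e + 1)) / a := by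
    field_simp
    ring
  rw [hl, hr, hε, one_mul, div_eq_div_iff (mul_ne_zero ha hD) ha] at h
  apply mul_right_cancel₀ (mul_ne_zero he1 ha)
  linear_combination -h

set_option maxHeartbeats 1000000 in
theorem card_eq_of_ti {G : Type u} [Group G] [Fintype G] (A M : Subgroup G) (hAM : A ≤ M)
    (hnorm : ∀ m ∈ M, ∀ a ∈ A, m * a * m⁻¹ ∈ A)
    (hab : ∀ a ∈ A, ∀ b ∈ A, a * b = b * a)
    (hC : ∀ a ∈ A, a ≠ 1 → Subgroup.centralizer ({a} : Set G) ≤ A)
    (hTI : ∀ g : G, g ∉ M → ∀ a ∈ A, g * a * g⁻¹ ∈ A → a = 1)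
    {e : ℕ} (he : A.relIndex M = e) (hodd : Odd e) (he2 : 2 ≤ e)
    {t : G} (ht : orderOf t = 2) (htA : t ∈ A)
    (hinv : Nat.card {a : G // a ∈ A ∧ orderOf a = 2} = e)
    (hconj : ∀ x y : G, orderOf x = 2 → orderOf y = 2 → IsConj x y) (hM : M ≠ ⊤) :
    Nat.card A = e + 1 := by
  classical
  haveI : Fintype M := Fintype.ofFinite M
  set L : Subgroup M := A.subgroupOf M with hL
  haveI hLn : L.Normal := ⟨fun k hk m => hnorm m m.2 k hk⟩
  have hidx : L.index = e := he
  have hcardL : Nat.card L = Nat.card A :=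
    Nat.card_congr (Subgroup.subgroupOfEquivOfLe hAM).toEquiv
  have hTI' : ∀ g : G, g ∉ M → ∀ k : M, k ∈ L → ∀ k' : M, k' ∈ L →
      g * (k : G) * g⁻¹ = k' → k = 1 :=
    fun g hg k hk k' hk' h => Subtype.ext (hTI g hg k hk (h ▸ hk'))
  have hC' : ∀ k ∈ L, k ≠ 1 → Subgroup.centralizer ({k} : Set M) ≤ L := fun k hk hk1 x hx =>
    hC (k : G) hk (fun h => hk1 (Subtype.ext h)) (Subgroup.mem_centralizer_singleton_iff.mpr
      (congrArg Subtype.val (Subgroup.mem_centralizer_singleton_iff.mp hx)))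
  have hab' : ∀ a ∈ L, ∀ b ∈ L, a * b = b * a :=
    fun a ha b hb => Subtype.ext (hab _ ha _ hb)
  have hcardI := CharExt.card_excSet M L hC' hab'
  rw [hidx, hcardL] at hcardI
  obtain ⟨ε, f, h | ⟨hε, hinj, hf⟩⟩ := CharExt.exists_exceptional M L hTI' hC' hab'
  · rw [h, one_mul] at hcardI; exact hcardI.symm
  set I := Finset.univ.filter (fun η : Cfsg.IrrCharacter M => ¬ CharExt.KTriv L η) with hI
  by_contra hne
  set tM : M := ⟨t, hAM htA⟩ with htM
  have htM2 : orderOf tM = 2 := by rw [← Subgroup.orderOf_coe]; exact ht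
  have htM1 : tM ≠ 1 := fun h => by rw [h, orderOf_one] at htM2; omega
  have hdeg : ∀ η ∈ I, (η : M → ℂ) 1 = (e : ℂ) := fun η hη => by
    rw [CharExt.degree_eq_index M L hC' hab' (Finset.mem_filter.1 hη).2, hidx]
  -- the involutions of `A` are conjugate under `M`
  have hMconj : ∀ s : M, s ∈ L → orderOf s = 2 → IsConj tM s := by
    intro s hs hs2
    have hs2' : orderOf (s : G) = 2 := by rw [Subgroup.orderOf_coe]; exact hs2
    obtain ⟨g, hg⟩ := isConj_iff.1 (hconj t s ht hs2')
    have hgM : g ∈ M := by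
      by_contra hgM
      have h1 := hTI g hgM t htA (hg.symm ▸ hs)
      rw [h1, orderOf_one] at ht
      omega
    exact isConj_iff.2 ⟨⟨g, hgM⟩, Subtype.ext hg⟩
  -- the subgroup of elements of square one
  let Om : Subgroup M :=
    { carrier := {a | a ∈ L ∧ a * a = 1}
      one_mem' := ⟨L.one_mem, one_mul 1⟩
      mul_mem' := by
        rintro a b ⟨ha, ha2⟩ ⟨hb, hb2⟩
        refine ⟨L.mul_mem ha hb, ?_⟩
        rw [mul_assoc, ← mul_assoc b a b, hab' b hb a ha, mul_assoc a b b, hb2, mul_one, ha2]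
      inv_mem' := by
        rintro a ⟨ha, ha2⟩
        refine ⟨L.inv_mem ha, ?_⟩
        rw [← mul_inv_rev, ha2, inv_one] }
  haveI : Fintype Om := Fintype.ofFinite Om
  have hOm2 : ∀ a : Om, a ≠ 1 → orderOf (a : M) = 2 := fun a ha =>
    orderOf_eq_prime (by rw [pow_two]; exact a.2.2) fun h => ha (Subtype.ext h)
  have hOmcard : Fintype.card Om = e + 1 := by
    have h1 : Nat.card {a : Om // a ≠ 1} = e := by
      rw [← hinv]
      refine Nat.card_congr
        { toFun := fun a => ⟨((a.1 : M) : G), a.1.2.1, by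
            rw [Subgroup.orderOf_coe]; exact hOm2 a.1 a.2⟩
          invFun := fun x => ⟨⟨⟨x.1, hAM x.2.1⟩, x.2.1, Subtype.ext (by
            have h := pow_orderOf_eq_one x.1
            rw [x.2.2, pow_two] at h
            exact h)⟩, fun h => by
            have h1 : x.1 = 1 := congrArg Subtype.val (congrArg Subtype.val h)
            have h2 := x.2.2
            rw [h1, orderOf_one] at h2
            omega⟩
          left_inv := fun a => rfl
          right_inv := fun x => rfl }
    rw [Nat.card_eq_fintype_card, Fintype.card_subtype_compl, Fintype.card_subtype_eq] at h1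
    have := Fintype.card_pos (α := Om)
    omega
  have hval : ∀ η ∈ I, (η : M → ℂ) tM = (e : ℂ) ∨ (η : M → ℂ) tM = -1 := by
    intro η hη
    obtain ⟨z, d, hz, hd, hle⟩ := irr_involution_abs_le η.2 htM2
    have hde : d = e := by exact_mod_cast hd.symm.trans (hdeg η hη)
    rw [hde] at hle
    obtain ⟨n, hn⟩ := Char.classInner_generalized_int
      (Char.isGeneralizedCharacter_comp (Char.isGeneralizedCharacter_of_irr η.2) Om.subtype)
      (Char.isGeneralizedCharacter_of_irr (Char.isIrrCharacter_const_one (G := Om)))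
    have hcl := Char.irr_isClassFunction η.2
    have hs : ∑ a : Om, (η : M → ℂ) a = (e : ℂ) + e * z := by
      rw [← Finset.add_sum_erase _ _ (Finset.mem_univ (1 : Om))]
      have h2 : ∀ a ∈ Finset.univ.erase (1 : Om), (η : M → ℂ) a = (z : ℂ) := by
        intro a ha
        rw [← hz]
        exact (Char.isClassFunction_eq_of_isConj hcl
          (hMconj a a.2.1 (hOm2 a (Finset.ne_of_mem_erase ha)))).symm
      rw [Finset.sum_congr rfl h2, Finset.sum_const, Finset.card_erase_of_mem (Finset.mem_univ _),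
        Finset.card_univ, hOmcard, OneMemClass.coe_one, hdeg η hη]
      simp
    have h3 : (e : ℂ) + e * z = (e + 1 : ℕ) * n := by
      rw [← hn, ← hs, Cfsg.classInner, Nat.card_eq_fintype_card, hOmcard]
      simp only [map_one, mul_one, Function.comp_apply, Subgroup.coe_subtype]
      rw [← mul_assoc, mul_inv_cancel₀ (Nat.cast_ne_zero.mpr (Nat.succ_ne_zero e)), one_mul]
    have h4 : (e : ℤ) + e * z = (e + 1) * n := by exact_mod_cast h3
    have h5 : ((e : ℤ) + 1) ∣ 1 + z := ⟨1 + z - n, by linear_combination -h4⟩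
    have h6 := abs_le.1 hle
    obtain ⟨c, hc⟩ := h5
    have hc1 : c = 0 ∨ c = 1 := by
      have : -1 < c := by nlinarith
      have : c ≤ 1 := by nlinarith
      omega
    rw [hz]
    rcases hc1 with rfl | rfl
    · right; rw [show z = -1 by linarith]; simp
    · left; rw [show z = (e : ℤ) by linarith]; simp
  -- counting the two types
  set IK := I.filter (fun η : Cfsg.IrrCharacter M => (η : M → ℂ) tM = (e : ℂ)) with hIK
  set k := IK.card with hk
  have hsumt : ∑ η ∈ I, (η : M → ℂ) tM = -1 := by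
    have h1 := CharExt.sum_not_kTriv_mul L tM
    rw [if_neg htM1, if_pos (show tM ∈ L from htA), hidx, zero_sub, ← hI,
      Finset.sum_congr rfl (fun η hη => by rw [hdeg η hη]), ← Finset.mul_sum] at h1
    have he0 : (e : ℂ) ≠ 0 := Nat.cast_ne_zero.mpr (by omega)
    apply mul_left_cancel₀ he0
    rw [h1]; ring
  have hjk : I.card = k * (e + 1) + 1 := by
    have h1 : ∀ η ∈ I, (η : M → ℂ) tM =
        (if (η : M → ℂ) tM = (e : ℂ) then ((e : ℂ) + 1) else 0) - 1 := by
      intro η hη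
      split_ifs with h
      · rw [h]; ring
      · rw [(hval η hη).resolve_left h]; ring
    rw [Finset.sum_congr rfl h1, Finset.sum_sub_distrib, ← Finset.sum_filter, Finset.sum_const,
      Finset.sum_const, ← hIK, ← hk, nsmul_eq_mul, nsmul_eq_mul, mul_one] at hsumt
    have h2 : ((I.card : ℕ) : ℂ) = ((k * (e + 1) + 1 : ℕ) : ℂ) := by
      push_cast
      linear_combination -hsumt
    exact_mod_cast h2
  have hk1 : 1 ≤ k := by
    by_contra h0
    push Not at h0
    rw [Nat.lt_one_iff.1 h0, zero_mul, zero_add] at hjk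
    rw [hjk, one_mul] at hcardI
    exact hne hcardI.symm
  obtain ⟨ηK, hηK⟩ : IK.Nonempty := Finset.card_pos.1 hk1
  obtain ⟨hηKI, hKt⟩ := Finset.mem_filter.1 hηK
  obtain ⟨ηN, hηNI, hNt⟩ : ∃ η ∈ I, (η : M → ℂ) tM = -1 := by
    by_contra hcon
    push Not at hcon
    have h1 : IK = I := Finset.filter_true_of_mem fun η hη => (hval η hη).resolve_right (hcon η hη)
    rw [← h1, ← hk] at hjk
    nlinarith
  let cI : ∀ η, η ∈ I → Cfsg.IrrCharacter G := fun η hη => f ⟨η, (Finset.mem_filter.1 hη).2⟩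
  have hdiff : ∀ η ξ (hη : η ∈ I) (hξ : ξ ∈ I),
      Cfsg.indFun M ((η : M → ℂ) - (ξ : M → ℂ)) =
        ε • ((cI η hη : G → ℂ) - (cI ξ hξ : G → ℂ)) :=
    fun η ξ hη hξ => hf ⟨η, _⟩ ⟨ξ, _⟩
  have hεε : ε * ε = 1 := by rcases hε with rfl | rfl <;> norm_num
  have hdcl : ∀ η ξ : Cfsg.IrrCharacter M, Cfsg.IsClassFunction M ((η : M → ℂ) - (ξ : M → ℂ)) :=
    fun η ξ g h => by simp [Char.irr_isClassFunction η.2 g h, Char.irr_isClassFunction ξ.2 g h]
  have hoff : ∀ η ξ, η ∈ I → ξ ∈ I → ∀ x : M, x ∉ L → ((η : M → ℂ) - (ξ : M → ℂ)) x = 0 :=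
    fun η ξ hη hξ x hx => by
      simp [CharExt.eq_zero_of_notMem L hC' (Finset.mem_filter.1 hη).2 hx,
        CharExt.eq_zero_of_notMem L hC' (Finset.mem_filter.1 hξ).2 hx]
  have happly : ∀ η ξ (hη : η ∈ I) (hξ : ξ ∈ I) (x : M), x ∈ L → x ≠ 1 →
      (cI η hη : G → ℂ) x - (cI ξ hξ : G → ℂ) x =
        ε * ((η : M → ℂ) x - (ξ : M → ℂ) x) := by
    intro η ξ hη hξ x hx hx1
    have h1 : Cfsg.indFun M ((η : M → ℂ) - (ξ : M → ℂ)) (x : G) =
        ((η : M → ℂ) - (ξ : M → ℂ)) x := by
      refine CharInd.indFun_ti_apply M (A : Set G) (fun g hg a ha h => hTI g hg a ha h)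
        (hdcl η ξ) (fun y hy => hoff η ξ hη hξ y hy) x hx hx1
    rw [hdiff η ξ hη hξ] at h1
    simp only [Pi.smul_apply, Pi.sub_apply, smul_eq_mul] at h1
    linear_combination ε * h1 - ((cI η hη : G → ℂ) x - (cI ξ hξ : G → ℂ) x) * hεε
  have hsame : ∀ η ξ (hη : η ∈ I) (hξ : ξ ∈ I),
      (cI η hη : G → ℂ) 1 = (cI ξ hξ : G → ℂ) 1 := by
    intro η ξ hη hξ
    have h1 := congrFun (hdiff η ξ hη hξ) 1
    rw [CharInd.indFun_one_eq_zero M (by simp [hdeg η hη, hdeg ξ hξ])] at h1
    simp only [Pi.smul_apply, Pi.sub_apply, smul_eq_mul] at h1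
    linear_combination (-ε) * h1 - ((cI η hη : G → ℂ) 1 - (cI ξ hξ : G → ℂ) 1) * hεε
  obtain ⟨ε', hε', hεc⟩ : ∃ ε' : ℤ, (ε' = 1 ∨ ε' = -1) ∧ ε = ε' := by
    rcases hε with rfl | rfl
    · exact ⟨1, Or.inl rfl, by simp⟩
    · exact ⟨-1, Or.inr rfl, by simp⟩
  choose Z D hZ hD hZD using fun χ : Cfsg.IrrCharacter G => irr_involution_abs_le χ.2 ht
  set χN := cI ηN hηNI with hχN
  set χK := cI ηK hηKI with hχK
  set V := Z χN with hV
  have hvalZ : ∀ η (hη : η ∈ I),
      Z (cI η hη) = if (η : M → ℂ) tM = (e : ℂ) then V + ε' * (e + 1) else V := by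
    intro η hη
    have h1 := happly η ηN hη hηNI tM htA htM1
    rw [← hχN] at h1
    change (cI η hη : G → ℂ) t - (χN : G → ℂ) t = _ at h1
    rw [hZ, hZ, ← hV, hNt, hεc] at h1
    split_ifs with h
    · rw [h] at h1
      have : ((Z (cI η hη) : ℤ) : ℂ) = ((V + ε' * (e + 1) : ℤ) : ℂ) := by
        push_cast; linear_combination h1
      exact_mod_cast this
    · rw [(hval η hη).resolve_left h] at h1
      have : ((Z (cI η hη) : ℤ) : ℂ) = ((V : ℤ) : ℂ) := by linear_combination h1
      exact_mod_cast this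
  have hcent : Nat.card (Subgroup.centralizer ({t} : Set G)) = Nat.card A := by
    have h1 : Subgroup.centralizer ({t} : Set G) = A :=
      le_antisymm (hC t htA fun h => by rw [h, orderOf_one] at ht; omega) fun a ha =>
        Subgroup.mem_centralizer_singleton_iff.2 (hab a ha t htA)
    rw [h1]
  have hcol : ∑ χ : Cfsg.IrrCharacter G, Z χ ^ 2 = (Nat.card A : ℤ) := by
    have h1 := Char.sum_irr_mul_conj t t
    rw [if_pos (IsConj.refl t), hcent] at h1
    simp only [hZ, map_intCast] at h1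
    rw [← Finset.sum_congr rfl (fun χ _ => by push_cast; ring :
      ∀ χ ∈ (Finset.univ : Finset (Cfsg.IrrCharacter G)),
        ((Z χ ^ 2 : ℤ) : ℂ) = (Z χ : ℂ) * (Z χ : ℂ)), ← Int.cast_sum] at h1
    exact_mod_cast h1
  have himg : ∀ (w : Cfsg.IrrCharacter G → ℤ), (∀ χ, 0 ≤ w χ) →
      ∑ η ∈ I.attach, w (cI η.1 η.2) ≤ ∑ χ, w χ := by
    intro w hw
    have hinj' : Set.InjOn (fun η : {x // x ∈ I} => cI η.1 η.2) (I.attach : Set _) :=
      fun a _ b _ hab => Subtype.ext (congrArg Subtype.val (hinj hab) :)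
    rw [← Finset.sum_image hinj']
    exact Finset.sum_le_sum_of_subset_of_nonneg (Finset.subset_univ _) fun χ _ _ => hw χ
  have hVbound : |V| ≤ 1 := by
    have h1 := (himg (fun χ => Z χ ^ 2) (fun χ => sq_nonneg _)).trans_eq hcol
    rw [Finset.sum_congr rfl (fun η _ => by rw [hvalZ η.1 η.2]),
      Finset.sum_attach I (fun η : Cfsg.IrrCharacter M =>
        (if (η : M → ℂ) tM = (e : ℂ) then V + ε' * (e + 1) else V) ^ 2)] at h1
    simp only [ite_pow] at h1
    rw [Finset.sum_ite, Finset.sum_const, Finset.sum_const, ← hIK, ← hk] at h1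
    simp only [nsmul_eq_mul] at h1
    have h2 : ((I.filter fun η : Cfsg.IrrCharacter M => ¬ (η : M → ℂ) tM = (e : ℂ)).card : ℤ) = k * e + 1 := by
      have := Finset.card_filter_add_card_filter_not (s := I)
        (fun η : Cfsg.IrrCharacter M => (η : M → ℂ) tM = (e : ℂ))
      rw [← hIK, ← hk, hjk] at this
      have : (I.filter fun η : Cfsg.IrrCharacter M => ¬ (η : M → ℂ) tM = (e : ℂ)).card = k * e + 1 := by
        rw [Nat.mul_add, Nat.mul_one] at this; omega
      rw [this]; push_cast; ring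
    rw [h2, ← hcardI, hjk] at h1
    refine two_types (k := (k : ℤ)) (e := (e : ℤ)) (V := V) (ε := ε') (by exact_mod_cast he2)
      (by exact_mod_cast hk1) hε' ?_
    push_cast at h1
    linarith
  -- products of two involutions
  set n : G → ℕ := fun g =>
    Nat.card {p : G × G // IsConj t p.1 ∧ IsConj t p.2 ∧ p.1 * p.2 = g} with hn
  have hinvol : ∀ x : G, IsConj t x ↔ orderOf x = 2 := by
    refine fun x => ⟨fun h => ?_, fun h => hconj t x ht h⟩
    obtain ⟨c, rfl⟩ := isConj_iff.1 h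
    rw [← ht]
    simpa using orderOf_injective (MulAut.conj c).toMonoidHom (MulAut.conj c).injective t
  have hnval : ∀ a ∈ A, a ≠ 1 → (n a : ℤ) = if orderOf a = 2 then (e : ℤ) - 1 else 0 := by
    intro a ha ha1
    have key : ∀ p : G × G, IsConj t p.1 → IsConj t p.2 → p.1 * p.2 = a →
        p.1 ∈ A ∧ orderOf a = 2 := by
      rintro ⟨x, y⟩ hx hy hxy
      rw [hinvol] at hx hy
      dsimp only at hx hy hxy ⊢
      have hxx : x * x = 1 := by rw [← pow_two, ← hx, pow_orderOf_eq_one]
      have hyy : y * y = 1 := by rw [← pow_two, ← hy, pow_orderOf_eq_one]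
      have hxi : x⁻¹ = x := inv_eq_of_mul_eq_one_right hxx
      have hyi : y⁻¹ = y := inv_eq_of_mul_eq_one_right hyy
      have hinva : x * a * x⁻¹ = a⁻¹ := by
        rw [← hxy, mul_inv_rev, hxi, hyi, ← mul_assoc, hxx, one_mul]
      have hxM : x ∈ M := by
        by_contra hxM
        exact ha1 (hTI x hxM a ha (hinva ▸ A.inv_mem ha))
      have hxA : x ∈ A := by
        have hsq : (⟨x, hxM⟩ : M) ^ 2 ∈ L := by
          have : (⟨x, hxM⟩ : M) ^ 2 = 1 := Subtype.ext (by rw [pow_two]; exact hxx)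
          rw [this]; exact L.one_mem
        have h1 : ((⟨x, hxM⟩ : M) : M ⧸ L) = 1 := by
          rw [← orderOf_eq_one_iff]
          refine Nat.dvd_one.1 ?_
          have hcop : Nat.Coprime 2 (Nat.card (M ⧸ L)) := by
            rw [← Subgroup.index_eq_card, hidx]; exact Nat.coprime_two_left.2 hodd
          rw [← hcop]
          refine Nat.dvd_gcd (orderOf_dvd_of_pow_eq_one ?_) (orderOf_dvd_natCard _)
          rw [← QuotientGroup.mk_pow, QuotientGroup.eq_one_iff]; exact hsq
        exact ((QuotientGroup.eq_one_iff (N := L) (⟨x, hxM⟩ : M)).1 h1 :)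
      refine ⟨hxA, orderOf_eq_prime ?_ ha1⟩
      rw [hab x hxA a ha, mul_inv_cancel_right] at hinva
      rw [pow_two]
      nth_rw 2 [hinva]
      exact mul_inv_cancel a
    split_ifs with h2
    · have h3 : n a = Nat.card {x : G // (x ∈ A ∧ orderOf x = 2) ∧ x ≠ a} := by
        refine Nat.card_congr
          { toFun := fun p => ⟨p.1.1, ⟨(key p.1 p.2.1 p.2.2.1 p.2.2.2).1,
              (hinvol _).1 p.2.1⟩, fun h => by
                have h4 := (hinvol _).1 p.2.2.1
                have h5 := p.2.2.2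
                rw [h] at h5
                rw [mul_eq_left.1 h5, orderOf_one] at h4
                omega⟩
            invFun := fun x => ⟨(x.1, x.1⁻¹ * a), (hinvol _).2 x.2.1.2, (hinvol _).2
              (orderOf_eq_prime (by
                have hx2 : x.1 ^ 2 = 1 := by
                  have h := pow_orderOf_eq_one x.1
                  rwa [x.2.1.2] at h
                have ha2 : a ^ 2 = 1 := h2 ▸ pow_orderOf_eq_one a
                rw [(show Commute x.1⁻¹ a from
                  (Commute.inv_left (hab x.1 x.2.1.1 a ha))).mul_pow, inv_pow, hx2, ha2,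
                  inv_one, one_mul])
                (fun h => x.2.2 (inv_mul_eq_one.1 h))), mul_inv_cancel_left _ _⟩
            left_inv := fun p => by
              apply Subtype.ext
              refine Prod.ext rfl ?_
              show p.1.1⁻¹ * a = p.1.2
              exact inv_mul_eq_iff_eq_mul.2 p.2.2.2.symm
            right_inv := fun x => rfl }
      have h4 : Nat.card {x : G // (x ∈ A ∧ orderOf x = 2) ∧ x ≠ a} + 1 = e := by
        rw [← hinv, Nat.card_eq_fintype_card, Nat.card_eq_fintype_card, Fintype.card_subtype,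
          Fintype.card_subtype]
        have hmem : a ∈ Finset.univ.filter (fun x => x ∈ A ∧ orderOf x = 2) := by simp [ha, h2]
        rw [← Finset.card_erase_add_one hmem]
        congr 2
        ext x
        simp only [Finset.mem_filter, Finset.mem_univ, true_and, Finset.mem_erase]
        tauto
      rw [h3]
      omega
    · have : IsEmpty {p : G × G // IsConj t p.1 ∧ IsConj t p.2 ∧ p.1 * p.2 = a} :=
        ⟨fun p => h2 (key p.1 p.2.1 p.2.2.1 p.2.2.2).2⟩
      exact congrArg Nat.cast (Nat.card_of_isEmpty (α := {p : G × G // IsConj t p.1 ∧ IsConj t p.2 ∧ p.1 * p.2 = a}))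
  set cI0 : ℂ := (Nat.card {x : G // IsConj t x} : ℂ) with hcI0
  have hnform : ∀ g : G, (n g : ℂ) = cI0 * cI0 / (Nat.card G : ℂ) *
      ∑ χ : Cfsg.IrrCharacter G,
        (Z χ : ℂ) * (Z χ : ℂ) / (D χ : ℂ) * conj ((χ : G → ℂ) g) := by
    intro g
    have h1 := Cfsg.Agent.S0840.result t t g
    rw [finsum_eq_sum_of_fintype] at h1
    rw [hn, h1]
    congr 1
    refine Finset.sum_congr rfl fun χ _ => ?_
    rw [hZ χ, hD χ]; ring
  have hnχ : ∀ ψ : Cfsg.IrrCharacter G, ∑ g : G, (n g : ℂ) * (ψ : G → ℂ) g =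
      cI0 * cI0 * ((Z ψ : ℂ) * (Z ψ : ℂ) / (D ψ : ℂ)) := by
    intro ψ
    simp only [hnform, Finset.mul_sum, Finset.sum_mul]
    rw [Finset.sum_comm]
    have h1 : ∀ χ : Cfsg.IrrCharacter G, ∑ g : G, conj ((χ : G → ℂ) g) * (ψ : G → ℂ) g =
        if χ = ψ then (Nat.card G : ℂ) else 0 := by
      intro χ
      have h2 := Char.sum_mul_conj_eq_card_mul_classInner (ψ : G → ℂ) (χ : G → ℂ)
      rw [Char.classInner_irrCharacter, mul_ite, mul_one, mul_zero] at h2
      rw [Finset.sum_congr rfl (fun g _ => mul_comm (conj ((χ : G → ℂ) g)) ((ψ : G → ℂ) g)), h2]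
      simp [eq_comm]
    have h3 : ∀ χ : Cfsg.IrrCharacter G,
        ∑ g : G, cI0 * cI0 / (Nat.card G : ℂ) *
          ((Z χ : ℂ) * (Z χ : ℂ) / (D χ : ℂ) * conj ((χ : G → ℂ) g)) * (ψ : G → ℂ) g =
        if χ = ψ then cI0 * cI0 * ((Z χ : ℂ) * (Z χ : ℂ) / (D χ : ℂ)) else 0 := by
      intro χ
      calc _ = cI0 * cI0 / (Nat.card G : ℂ) * ((Z χ : ℂ) * (Z χ : ℂ) / (D χ : ℂ)) *
            ∑ g : G, conj ((χ : G → ℂ) g) * (ψ : G → ℂ) g := by
            rw [Finset.mul_sum]; exact Finset.sum_congr rfl fun g _ => by ring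
        _ = _ := by
            rw [h1]
            split_ifs
            · have := Char.card_ne_zero_complex (G := G)
              field_simp
            · ring
    rw [Finset.sum_congr rfl (fun χ _ => h3 χ), Finset.sum_ite_eq' Finset.univ ψ, if_pos
      (Finset.mem_univ _)]
  have hncl : Cfsg.IsClassFunction G (fun g => (n g : ℂ)) := by
    intro g h
    show (n (h * g * h⁻¹) : ℂ) = n g
    rw [hnform, hnform]
    congr 1
    exact Finset.sum_congr rfl fun χ _ => by rw [Char.irr_isClassFunction χ.2 g h]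
  have hdN := hdiff ηN ηK hηNI hηKI
  rw [← hχN, ← hχK] at hdN
  have hE : D χN = D χK := by
    have h1 := hsame ηN ηK hηNI hηKI
    rw [← hχN, ← hχK, hD, hD] at h1
    exact_mod_cast h1
  have hZK : Z χK = V + ε' * (e + 1) := by
    rw [hχK, hvalZ ηK hηKI, if_pos hKt]
  have hleft : Cfsg.classInner (fun g => (n g : ℂ))
      (Cfsg.indFun M ((ηN : M → ℂ) - (ηK : M → ℂ))) =
      (Nat.card G : ℂ)⁻¹ * (ε * (cI0 * cI0 * (((V : ℂ) * V - (Z χK : ℂ) * Z χK) / (D χN : ℂ)))) := by
    rw [hdN, Cfsg.classInner]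
    congr 1
    have h1 : ∀ g : G, (n g : ℂ) * conj ((ε • ((χN : G → ℂ) - (χK : G → ℂ))) g) =
        ε * conj ((n g : ℂ) * (χN : G → ℂ) g - (n g : ℂ) * (χK : G → ℂ) g) := by
      intro g
      have hεr : conj ε = ε := by rw [hεc, map_intCast]
      simp only [Pi.smul_apply, Pi.sub_apply, smul_eq_mul, map_mul, map_sub, hεr,
        Complex.conj_natCast]
      ring
    rw [Finset.sum_congr rfl (fun g _ => h1 g), ← Finset.mul_sum, ← map_sum,
      Finset.sum_sub_distrib, hnχ, hnχ, ← hE, ← hV]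
    simp only [map_sub, map_mul, map_div₀, map_intCast, map_natCast, hcI0]
    ring
  have hright : Cfsg.classInner (fun g => (n g : ℂ))
      (Cfsg.indFun M ((ηN : M → ℂ) - (ηK : M → ℂ))) =
      (Nat.card M : ℂ)⁻¹ * (((e : ℂ) - 1) * e * (-1 - e)) := by
    rw [CharInd.classInner_indFun_right M _ hncl, Cfsg.classInner]
    congr 1
    have h1 : ∀ m : M, (n (m : G) : ℂ) * conj (((ηN : M → ℂ) - (ηK : M → ℂ)) m) =
        if (m ∈ L ∧ orderOf m = 2) then ((e : ℂ) - 1) * (-1 - e) else 0 := by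
      intro m
      by_cases hmL : m ∈ L
      swap
      · rw [if_neg (fun h => hmL h.1), hoff ηN ηK hηNI hηKI m hmL, map_zero, mul_zero]
      by_cases hm1 : m = 1
      · rw [if_neg (fun h => by rw [hm1, orderOf_one] at h; omega), hm1, Pi.sub_apply,
          hdeg ηN hηNI, hdeg ηK hηKI, sub_self, map_zero, mul_zero]
      have hnv := hnval (m : G) hmL (fun h => hm1 (Subtype.ext h))
      rw [Subgroup.orderOf_coe] at hnv
      by_cases hm2 : orderOf m = 2
      · rw [if_pos ⟨hmL, hm2⟩]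
        rw [if_pos hm2] at hnv
        have h2 : ∀ η : Cfsg.IrrCharacter M, (η : M → ℂ) m = (η : M → ℂ) tM := fun η =>
          (Char.isClassFunction_eq_of_isConj (Char.irr_isClassFunction η.2) (hMconj m hmL hm2)).symm
        have h3 : ((n (m : G) : ℕ) : ℂ) = (e : ℂ) - 1 := by
          have := congrArg (fun z : ℤ => (z : ℂ)) hnv
          simpa using this
        rw [h3, Pi.sub_apply, h2, h2, hNt, hKt]
        simp
      · rw [if_neg (fun h => hm2 h.2)]
        rw [if_neg hm2] at hnv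
        have : n (m : G) = 0 := by exact_mod_cast hnv
        rw [this, Nat.cast_zero, zero_mul]
    rw [Finset.sum_congr rfl (fun m _ => h1 m), ← Finset.sum_filter, Finset.sum_const,
      nsmul_eq_mul]
    have h4 : (Finset.univ.filter (fun m : M => m ∈ L ∧ orderOf m = 2)).card = e := by
      rw [← hinv, ← Fintype.card_subtype, ← Nat.card_eq_fintype_card]
      exact Nat.card_congr
        { toFun := fun m => ⟨((m.1 : M) : G), m.2.1, by rw [Subgroup.orderOf_coe]; exact m.2.2⟩
          invFun := fun x => ⟨⟨x.1, hAM x.2.1⟩, x.2.1, by rw [← Subgroup.orderOf_coe]; exact x.2.2⟩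
          left_inv := fun _ => rfl
          right_inv := fun _ => rfl }
    rw [h4]; ring
  have hclass : Nat.card {x : G // IsConj t x} = A.index := by
    have h1 : (Subgroup.centralizer ({t} : Set G)) = A :=
      le_antisymm (hC t htA fun h => by rw [h, orderOf_one] at ht; omega) fun a ha =>
        Subgroup.mem_centralizer_singleton_iff.2 (hab a ha t htA)
    rw [Nat.card_eq_fintype_card, Fintype.card_subtype, ← h1]
    convert Char.card_isConj_eq_index t
  have hAi : A.index = e * M.index := by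
    rw [← he, Subgroup.relIndex_mul_index hAM]
  have hcardM : (Nat.card M : ℂ) = (Nat.card A : ℂ) * e := by
    rw [← hcardL, ← hidx, ← Nat.cast_mul, Subgroup.card_mul_index]
  have hcardG : (Nat.card G : ℂ) = (Nat.card A : ℂ) * A.index := by
    rw [← Nat.cast_mul, Subgroup.card_mul_index]
  have hA0 : (Nat.card A : ℂ) ≠ 0 := Nat.cast_ne_zero.mpr Nat.card_pos.ne'
  have hAi0 : (A.index : ℂ) ≠ 0 := Nat.cast_ne_zero.mpr Subgroup.index_ne_zero_of_finite
  have he0 : (e : ℂ) ≠ 0 := Nat.cast_ne_zero.mpr (by omega)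
  have hD0 : (D χN : ℂ) ≠ 0 := by rw [← hD]; exact Char.irr_one_ne_zero χN.2
  have hmain : (A.index : ℤ) * (2 * V + ε' * (e + 1)) = ((e : ℤ) - 1) * (D χN : ℤ) := by
    have h1 := hleft.symm.trans hright
    rw [hcI0, hclass, hcardM, hcardG, hZK, hεc] at h1
    push_cast at h1
    have hε2 : (ε' : ℂ) * ε' = 1 := by rw [← hεc]; exact hεε
    have h3 : ((e : ℂ) + 1) ≠ 0 := by exact_mod_cast Nat.succ_ne_zero e
    have h4 := count_algebra hA0 hAi0 he0 hD0 hε2 h3 h1
    exact_mod_cast h4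
  have hEge : A.index ≤ D χN := by
    have hAipos : (0 : ℤ) < A.index := by
      exact_mod_cast Nat.pos_of_ne_zero Subgroup.index_ne_zero_of_finite
    have hV' := abs_le.1 hVbound
    have he' : (2 : ℤ) ≤ e := by exact_mod_cast he2
    rcases hε' with rfl | rfl
    · have : (A.index : ℤ) ≤ D χN := by nlinarith
      exact_mod_cast this
    · exfalso
      have h0 : (0 : ℤ) < D χN := by
        have : D χN ≠ 0 := fun h => hD0 (by rw [h]; simp)
        exact_mod_cast Nat.pos_of_ne_zero this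
      nlinarith
  have hsq : (I.card : ℤ) * (D χN : ℤ) ^ 2 ≤ (Nat.card G : ℤ) := by
    have h1 : ∑ χ : Cfsg.IrrCharacter G, (D χ : ℤ) ^ 2 = (Nat.card G : ℤ) := by
      have h := Char.sum_irr_degree_mul (1 : G)
      rw [if_pos rfl] at h
      simp only [hD] at h
      have : ((∑ χ : Cfsg.IrrCharacter G, (D χ : ℤ) ^ 2 : ℤ) : ℂ) = (Nat.card G : ℂ) := by
        rw [← h]; push_cast; exact Finset.sum_congr rfl fun χ _ => by ring
      exact_mod_cast this
    refine le_trans (le_of_eq ?_) ((himg (fun χ => (D χ : ℤ) ^ 2) (fun χ => sq_nonneg _)).trans_eq h1)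
    have h2 : ∀ η ∈ I.attach, (D (cI η.1 η.2) : ℤ) ^ 2 = (D χN : ℤ) ^ 2 := by
      intro η _
      have h3 := hsame η.1 ηN η.2 hηNI
      rw [← hχN, hD, hD] at h3
      have : D (cI η.1 η.2) = D χN := by exact_mod_cast h3
      rw [this]
    rw [Finset.sum_congr rfl h2, Finset.sum_const, Finset.card_attach, nsmul_eq_mul]
  have hAi2 : 2 * e ≤ A.index := by
    have := Subgroup.one_lt_index_of_ne_top hM
    rw [hAi]
    nlinarith
  have hG : (Nat.card G : ℤ) = (Nat.card A : ℤ) * A.index := by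
    rw [← Nat.cast_mul, Subgroup.card_mul_index]
  have h5 : (I.card : ℤ) * A.index ≤ Nat.card A := by
    have hpos : (0 : ℤ) < A.index := by
      exact_mod_cast Nat.pos_of_ne_zero Subgroup.index_ne_zero_of_finite
    refine le_of_mul_le_mul_right ?_ hpos
    rw [← hG]
    refine le_trans ?_ hsq
    have : (A.index : ℤ) ≤ D χN := by exact_mod_cast hEge
    rw [mul_assoc, ← pow_two]
    exact mul_le_mul_of_nonneg_left (pow_le_pow_left₀ hpos.le this 2) (Int.natCast_nonneg _)
  have h6 : (I.card : ℤ) * (2 * e) ≤ I.card * e + 1 := by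
    refine le_trans (mul_le_mul_of_nonneg_left (by exact_mod_cast hAi2) (Int.natCast_nonneg _))
      (h5.trans_eq ?_)
    exact_mod_cast hcardI.symm
  have h7 : (1 : ℤ) ≤ I.card := by
    rw [hjk]; push_cast; nlinarith
  have h8 : (2 : ℤ) ≤ e := by exact_mod_cast he2
  nlinarith

end Cfsg.Agent.InvAb
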