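import Cfsg.Agent.InvAb.Basic
import Cfsg.Agent.InvAb.Over
import Cfsg.Agent.InvAb.TICount
import Cfsg.Agent.S1225

/-!
# Abelian involution centralisers: squares in `C(T)` are central
-/

set_option autoImplicit false

namespace Cfsg.Agent.InvAb

open TwoFusion

universe u

section Quot

variable {G : Type u} [Group G] [Finite G] {T : Sylow 2 G}

/-- An involution of the central quotient lifts to an involution. -/
theorem Setup.lift_involution (h : Setup T) {x : G ⧸ Subgroup.center G} (hx : orderOf x = 2) :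
    ∃ t : G, orderOf t = 2 ∧ (t : G ⧸ Subgroup.center G) = x := by
  induction x using QuotientGroup.induction_on with | _ g => ?_
  obtain ⟨k, hk⟩ := h.odd_center
  set n := Nat.card (Subgroup.center G)
  have h2 : g ^ 2 ∈ Subgroup.center G := by
    rw [← QuotientGroup.eq_one_iff, QuotientGroup.mk_pow, ← hx, pow_orderOf_eq_one]
  have hn : (g ^ 2) ^ n = 1 := by
    have := pow_card_eq_one' (x := (⟨g ^ 2, h2⟩ : Subgroup.center G))
    exact congrArg Subtype.val this
  have hg : ((g ^ n : G) : G ⧸ Subgroup.center G) = g := by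
    rw [QuotientGroup.mk_pow, hk, pow_succ, pow_mul, ← hx, pow_orderOf_eq_one, one_pow, one_mul]
  refine ⟨g ^ n, orderOf_eq_prime (by rw [← pow_mul, mul_comm, pow_mul]; exact hn) fun e => ?_, hg⟩
  rw [e, QuotientGroup.mk_one] at hg
  rw [← hg, orderOf_one] at hx
  omega

theorem Setup.commute_of_quot (h : Setup T) {t g : G} (ht : orderOf t = 2)
    (he : (g : G ⧸ Subgroup.center G) * t = t * g) : g * t = t * g := by
  set c := g * t * g⁻¹ * t⁻¹ with hc
  have hcZ : c ∈ Subgroup.center G := by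
    rw [← QuotientGroup.eq_one_iff, hc]
    simp only [QuotientGroup.mk_mul, QuotientGroup.mk_inv]
    rw [he]; group
  have h1 : g * t * g⁻¹ = c * t := by rw [hc]; group
  have hcc : c * c = 1 := by
    have h3 : (c * t) * (c * t) = 1 := by
      rw [← h1, show g * t * g⁻¹ * (g * t * g⁻¹) = g * (t * t) * g⁻¹ by group,
        involution_mul_self ht, mul_one, mul_inv_cancel]
    have h4 : t * c = c * t := Subgroup.mem_center_iff.1 hcZ t
    rw [mul_assoc, ← mul_assoc t c t, h4, mul_assoc c t t, involution_mul_self ht, mul_one] at h3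
    exact h3
  by_cases hc1 : c = 1
  · rw [hc1, one_mul, mul_inv_eq_iff_eq_mul] at h1; exact h1
  · exact absurd hcZ (h.no_central_involution (orderOf_eq_prime (by rw [pow_two]; exact hcc) hc1))

theorem Setup.invComm_quot (h : Setup T) : InvComm (G ⧸ Subgroup.center G) := by
  intro x hx a b ha hb
  obtain ⟨t, ht, rfl⟩ := h.lift_involution hx
  induction a using QuotientGroup.induction_on with | _ a => ?_
  induction b using QuotientGroup.induction_on with | _ b => ?_
  rw [← QuotientGroup.mk_mul, ← QuotientGroup.mk_mul,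
    h.inv t ht a b (h.commute_of_quot ht ha) (h.commute_of_quot ht hb)]

theorem Setup.exists_quot (h : Setup T) :
    ∃ Tq : Sylow 2 (G ⧸ Subgroup.center G), Setup Tq ∧
      ∀ a ∈ cA T, (a : G ⧸ Subgroup.center G) ∈ cA Tq := by
  set π := QuotientGroup.mk' (Subgroup.center G)
  refine ⟨T.mapSurjective (QuotientGroup.mk'_surjective (Subgroup.center G)), ?_, ?_⟩
  · have hdisj : ∀ x ∈ (T : Subgroup G), x ∈ Subgroup.center G → x = 1 := by
      intro x hxT hxZ
      obtain ⟨k, hk⟩ := IsPGroup.iff_orderOf.1 T.isPGroup' ⟨x, hxT⟩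
      rw [Subgroup.orderOf_mk] at hk
      have hd := Subgroup.orderOf_dvd_natCard _ hxZ
      rw [hk] at hd
      rcases Nat.eq_zero_or_pos k with rfl | hk0
      · exact orderOf_eq_one_iff.1 (by simpa using hk)
      · exact absurd ((dvd_pow_self 2 hk0.ne').trans hd) h.odd_center.not_two_dvd_nat
    refine ⟨h.invComm_quot, fun hc => h.nc ?_, fun hn => h.nn ⟨fun x hx g => ?_⟩⟩
    · rw [Sylow.coe_mapSurjective] at hc
      refine (MulEquiv.ofBijective (π.subgroupMap (T : Subgroup G))
        ⟨fun a b hab => ?_, MonoidHom.subgroupMap_surjective _ _⟩).isCyclic.2 hc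
      have h1 : π (a : G) = π (b : G) := congrArg Subtype.val hab
      have h2 : (a : G)⁻¹ * b ∈ Subgroup.center G := QuotientGroup.eq.1 h1
      exact Subtype.ext (inv_mul_eq_one.1 (hdisj _ (mul_mem (inv_mem a.2) b.2) h2))
    · rw [Sylow.coe_mapSurjective] at hn
      obtain ⟨y, hy, hye⟩ := Subgroup.mem_map.1 (hn.conj_mem _ (Subgroup.mem_map_of_mem π hx) (π g))
      rw [← map_mul, ← map_inv, ← map_mul] at hye
      have h2 : y⁻¹ * (g * x * g⁻¹) ∈ Subgroup.center G := QuotientGroup.eq.1 hye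
      set w := y⁻¹ * (g * x * g⁻¹) with hw
      obtain ⟨i, hi⟩ := IsPGroup.iff_orderOf.1 T.isPGroup' ⟨x, hx⟩
      obtain ⟨j, hj⟩ := IsPGroup.iff_orderOf.1 T.isPGroup' ⟨y, hy⟩
      rw [Subgroup.orderOf_mk] at hi hj
      have e : g * x * g⁻¹ = y * w := by rw [hw]; group
      have h3 : w ^ 2 ^ (i + j) = 1 := by
        have hy1 : y ^ 2 ^ (i + j) = 1 :=
          orderOf_dvd_iff_pow_eq_one.1 (hj ▸ pow_dvd_pow 2 (Nat.le_add_left j i))
        have hx1 : (g * x * g⁻¹) ^ 2 ^ (i + j) = 1 := by
          apply orderOf_dvd_iff_pow_eq_one.1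
          rw [orderOf_conj', hi]
          exact pow_dvd_pow 2 (Nat.le_add_right i j)
        rwa [e, (show Commute y w from Subgroup.mem_center_iff.1 h2 y).mul_pow, hy1, one_mul] at hx1
      have h4 : w = 1 := by
        rw [← orderOf_eq_one_iff]
        refine Nat.eq_one_of_dvd_coprimes (Nat.Coprime.pow_left (i + j)
          (Nat.coprime_two_left.2 h.odd_center)) (orderOf_dvd_of_pow_eq_one h3)
          (Subgroup.orderOf_dvd_natCard _ h2)
      rw [e, h4, mul_one]; exact hy
  · intro a ha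
    refine Subgroup.mem_centralizer_iff.2 fun x hx => ?_
    rw [Sylow.coe_mapSurjective] at hx
    obtain ⟨y, hy, rfl⟩ := Subgroup.mem_map.1 hx
    show (y : G ⧸ Subgroup.center G) * a = a * y
    rw [← QuotientGroup.mk_mul, ← QuotientGroup.mk_mul, Subgroup.mem_centralizer_iff.1 ha y hy]

theorem Setup.bsw_quot (h : Setup T) (hsq : ∀ a ∈ cA T, a * a ∈ Subgroup.center G) :
    ∃ Tq : Sylow 2 (G ⧸ Subgroup.center G), BSW.Hyp Tq := by
  obtain ⟨Tq, hq, -⟩ := h.exists_quot
  refine ⟨Tq, hq.nc, hq.nn, fun x hx => ⟨⟨⟨fun a b => Subtype.ext (hq.inv x hx a b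
    (Subgroup.mem_centralizer_singleton_iff.1 a.2) (Subgroup.mem_centralizer_singleton_iff.1 b.2))⟩⟩,
    fun c hc => ?_⟩⟩
  obtain ⟨t, ht, rfl⟩ := h.lift_involution hx
  induction c using QuotientGroup.induction_on with | _ c => ?_
  have hct := h.commute_of_quot ht (Subgroup.mem_centralizer_singleton_iff.1 hc)
  obtain ⟨z, hzT, hz, -⟩ := h.exists_central
  obtain ⟨g, hg⟩ := isConj_iff.1 (h.isConj hz ht)
  have hcA : g⁻¹ * c * g ∈ cA T := by
    rw [← h.centralizer_eq hz hzT, Subgroup.mem_centralizer_singleton_iff]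
    calc g⁻¹ * c * g * z = g⁻¹ * (c * (g * z * g⁻¹)) * g := by group
      _ = g⁻¹ * ((g * z * g⁻¹) * c) * g := by rw [hg, hct]
      _ = z * (g⁻¹ * c * g) := by group
  have h1 := Subgroup.Normal.conj_mem (inferInstance : (Subgroup.center G).Normal) _ (hsq _ hcA) g
  rw [pow_two, ← QuotientGroup.mk_mul, QuotientGroup.eq_one_iff]
  simpa [mul_assoc] using h1

end Quot

/-- An involution fixed-point-free on a subgroup inverts it. -/
theorem inverts_of_fpf {G : Type*} [Group G] [Finite G] {K : Subgroup G} {u : G}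
    (hu : u * u = 1) (hK : ∀ k ∈ K, u * k * u⁻¹ ∈ K)
    (hfpf : ∀ k ∈ K, u * k * u⁻¹ = k → k = 1) : ∀ k ∈ K, u * k * u⁻¹ = k⁻¹ := by
  intro k hk
  let φ : K →* K := MonoidHom.mk' (fun x => ⟨u * x * u⁻¹, hK x x.2⟩)
    fun x y => Subtype.ext (by
      show u * ((x : G) * y) * u⁻¹ = u * x * u⁻¹ * (u * y * u⁻¹)
      group)
  have h1 : MonoidHom.FixedPointFree φ := fun x hx =>
    Subtype.ext (hfpf x x.2 (congrArg Subtype.val hx))
  have h2 : Function.Involutive φ := fun x => Subtype.ext (by
    show u * (u * (x : G) * u⁻¹) * u⁻¹ = x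
    rw [show u * (u * (x : G) * u⁻¹) * u⁻¹ = (u * u) * x * (u * u)⁻¹ by group, hu]
    simp)
  exact congrArg Subtype.val (congrFun (h1.coe_eq_inv_of_involutive h2) ⟨k, hk⟩)

theorem sq_mem_center_aux : ∀ (n : ℕ) (G : Type u) [Group G] [Finite G] (T : Sylow 2 G),
    Nat.card G = n → Setup T → ∀ a ∈ cA T, a * a ∈ Subgroup.center G := by
  intro n
  induction n using Nat.strong_induction_on with
  | _ n ih =>
  intro G _ _ T hn h a₀ ha₀
  classical
  obtain ⟨z, hzT, hz, -⟩ := h.exists_central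
  obtain ⟨u, hu, huM⟩ := h.exists_outside
  by_cases hZ : Subgroup.center G = ⊥
  swap
  · -- a nontrivial centre
    obtain ⟨Tq, hq, hmem⟩ := h.exists_quot
    have hlt : Nat.card (G ⧸ Subgroup.center G) < n := by
      rw [← hn, ← (Subgroup.center G).card_mul_index, Subgroup.index_eq_card]
      exact lt_mul_of_one_lt_left Nat.card_pos ((Subgroup.center G).one_lt_card_iff_ne_bot.2 hZ)
    have hw := ih _ hlt (G ⧸ Subgroup.center G) Tq rfl hq _ (hmem a₀ ha₀)
    set w := a₀ * a₀
    have hval : ∀ g : G, w * g * w⁻¹ * g⁻¹ ∈ Subgroup.center G := fun g => by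
      rw [← QuotientGroup.eq_one_iff]
      simp only [QuotientGroup.mk_mul, QuotientGroup.mk_inv]
      have := Subgroup.mem_center_iff.1 hw (g : G ⧸ Subgroup.center G)
      change _ = ((a₀ : G ⧸ Subgroup.center G) * a₀) * _ at this
      simp only [w, QuotientGroup.mk_mul]
      rw [← this]; group
    let φ : G →* Subgroup.center G := MonoidHom.mk' (fun g => ⟨_, hval g⟩) fun g k => Subtype.ext (by
      show w * (g * k) * w⁻¹ * (g * k)⁻¹ = w * g * w⁻¹ * g⁻¹ * (w * k * w⁻¹ * k⁻¹)
      have hc := Subgroup.mem_center_iff.1 (hval k) g⁻¹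
      calc w * (g * k) * w⁻¹ * (g * k)⁻¹ = w * g * w⁻¹ * ((w * k * w⁻¹ * k⁻¹) * g⁻¹) := by group
        _ = w * g * w⁻¹ * (g⁻¹ * (w * k * w⁻¹ * k⁻¹)) := by rw [hc]
        _ = _ := by group)
    have hker : ∀ g, g ∈ φ.ker ↔ w * g = g * w := fun g => by
      rw [MonoidHom.mem_ker]
      refine ⟨fun e => ?_, fun e => Subtype.ext ?_⟩
      · have e' : w * g * w⁻¹ * g⁻¹ = 1 := congrArg Subtype.val e
        rw [mul_inv_eq_one, mul_inv_eq_iff_eq_mul] at e'
        exact e'
      · show w * g * w⁻¹ * g⁻¹ = 1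
        rw [e]; group
    have hA : cA T ≤ φ.ker := fun c hc => (hker c).2 (h.cA_comm _ (mul_mem ha₀ ha₀) c hc)
    have huK : u ∈ φ.ker := by
      rw [MonoidHom.mem_ker, ← orderOf_eq_one_iff]
      refine Nat.eq_one_of_dvd_coprimes (Nat.coprime_two_left.2 h.odd_center) ?_ (orderOf_dvd_natCard _)
      exact orderOf_dvd_of_pow_eq_one (by
        rw [← map_pow, ← hu, pow_orderOf_eq_one, map_one])
    have htop := h.over_normal hA (fun hle => huM (hle huK))
    exact Subgroup.mem_center_iff.2 fun g => ((hker g).1 (htop ▸ Subgroup.mem_top g)).symm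
  -- trivial centre: centralisers of elements of `C(T)` lie in `N(T)`
  have hcent : ∀ b ∈ cA T, b ≠ 1 → Subgroup.centralizer ({b} : Set G) ≤ mM T := by
    intro b hb hb1
    by_contra hH
    set H := Subgroup.centralizer ({b} : Set G) with hHdef
    have hA : cA T ≤ H := fun c hc =>
      Subgroup.mem_centralizer_singleton_iff.2 (h.cA_comm c hc b hb)
    have hne : H ≠ ⊤ := fun e => hb1 (by
      rw [← Subgroup.mem_bot, ← hZ]
      exact Subgroup.mem_center_iff.2 fun g => Subgroup.mem_centralizer_singleton_iff.1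
        (show g ∈ H from e ▸ Subgroup.mem_top g))
    have hse := h.over_stronglyEmbedded hA hH hne
    obtain ⟨TH, hTH, -⟩ := h.restrict hA hH
    have hlt : Nat.card H < n := by
      rw [← hn, ← H.card_mul_index]
      exact lt_mul_of_one_lt_right Nat.card_pos (Subgroup.one_lt_index_of_ne_top hne)
    obtain ⟨Tq, hbsw⟩ := hTH.bsw_quot (ih _ hlt H TH rfl hTH)
    obtain ⟨g, hg⟩ : ∃ g, g ∉ H := by
      by_contra hcon
      push Not at hcon
      exact hne (eq_top_iff.2 fun x _ => hcon x)
    have hv : g * z * g⁻¹ ∉ H := fun hv =>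
      hg (h.over_mem_of_conj hA hH hz (hA (h.T_le_cA hzT)) hv)
    set v := g * z * g⁻¹
    set D := H ⊓ H.map (MulAut.conj v).toMonoidHom with hD
    refine no_odd_transitive hbsw ((D.subgroupOf H).map (QuotientGroup.mk' _)) ?_ ?_
    · refine Odd.of_dvd_nat ?_ (Subgroup.card_map_dvd _ _)
      rw [Nat.card_congr (Subgroup.subgroupOfEquivOfLe (inf_le_left : D ≤ H)).toEquiv]
      exact hse.2.2 v hv
    · intro x y hx hy
      obtain ⟨x', hx', rfl⟩ := hTH.lift_involution hx
      obtain ⟨y', hy', rfl⟩ := hTH.lift_involution hy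
      obtain ⟨⟨d, hd, hdx⟩, -⟩ := Cfsg.Agent.S1225.result H hse v ((orderOf_conj' g z).trans hz) hv
        (x' : G) (y' : G) (by rw [Subgroup.orderOf_coe]; exact hx') x'.2
        (by rw [Subgroup.orderOf_coe]; exact hy') y'.2
      refine ⟨QuotientGroup.mk' _ (⟨d, hd.1⟩ : H), Subgroup.mem_map_of_mem _ hd, ?_⟩
      have e : y' = ⟨d, hd.1⟩ * x' * ⟨d, hd.1⟩⁻¹ := Subtype.ext hdx.symm
      rw [e]; rfl
  -- `N(T)` is strongly embedded
  have hM : Cfsg.IsStronglyEmbedded (mM T) := by
    refine ⟨fun e => h.nn (Subgroup.normalizer_eq_top_iff.1 e), ?_, fun g hg => ?_⟩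
    · rw [even_iff_two_dvd]
      have := Subgroup.orderOf_dvd_natCard (mM T) (Subgroup.le_normalizer hzT)
      rwa [hz] at this
    · rw [← Nat.not_even_iff_odd, even_iff_two_dvd]
      intro hd
      obtain ⟨⟨x, hx12⟩, hx⟩ := exists_prime_orderOf_dvd_card'
        (G := ↥(mM T ⊓ (mM T).map (MulAut.conj g).toMonoidHom)) 2 hd
      have hx' : orderOf x = 2 := by rw [← hx, ← Subgroup.orderOf_coe]
      have hx2 : g⁻¹ * x * g ∈ mM T := mem_map_conj_iff.1 hx12.2
      have hy : orderOf (g⁻¹ * x * g) = 2 := by simpa using (orderOf_conj' g⁻¹ x).trans hx'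
      exact hg (h.mem_of_conj hy (mem_T_of_mem_mM hy hx2)
        (by simpa [mul_assoc] using mem_T_of_mem_mM hx' hx12.1))
  have hC : ∀ a ∈ cA T, a ≠ 1 → Subgroup.centralizer ({a} : Set G) ≤ cA T := by
    intro a ha ha1 c hc
    by_contra hcA
    have hcM : c ∈ mM T := hcent a ha ha1 hc
    set t := c * z * c⁻¹ with ht'
    have ht : orderOf t = 2 := (orderOf_conj' c z).trans hz
    have htT : t ∈ (T : Subgroup G) := (Subgroup.mem_normalizer_iff.1 hcM z).1 hzT
    have huinv := involution_inv hu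
    have h1 : u * t * u⁻¹ ∉ mM T := fun h' =>
      huM (se_mem_of_conj_mem hM ht (Subgroup.le_normalizer htT) h')
    obtain ⟨v, hv, hvs, -⟩ :=
      se_exists_swap hM hz (Subgroup.le_normalizer hzT) ((orderOf_conj' _ _).trans ht) h1
    set d := u⁻¹ * v with hd'
    have h2 : d * z * d⁻¹ = t := by
      have h' := congrArg (fun x => u⁻¹ * x * u) hvs
      simpa [hd', mul_assoc] using h'
    have h3 : d ∈ mM T := se_mem_of_conj_mem hM hz (Subgroup.le_normalizer hzT)
      (by rw [h2]; exact Subgroup.le_normalizer htT)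
    have h4 : u * d * u⁻¹ = d⁻¹ := by
      rw [hd', mul_inv_rev, inv_inv, involution_inv hv, huinv, ← mul_assoc, involution_mul_self hu,
        one_mul]
    have hdodd : Odd (orderOf d) := by
      have hmem : d ∈ mM T ⊓ (mM T).map (MulAut.conj u).toMonoidHom :=
        ⟨h3, mem_map_conj_iff.2 (by
          have h5 := inv_mem h3
          rw [← h4] at h5
          rwa [huinv] at h5 ⊢)⟩
      exact (hM.2.2 u huM).of_dvd_nat (Subgroup.orderOf_dvd_natCard _ hmem)
    have hd1 : d ≠ 1 := fun e => hcA (by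
      rw [← h.centralizer_eq hz hzT, Subgroup.mem_centralizer_singleton_iff]
      have h6 : c * z * c⁻¹ = z := by rw [← ht', ← h2, e]; group
      exact mul_inv_eq_iff_eq_mul.1 h6)
    have hda : d * a = a * d := by
      have h6 : d⁻¹ * c ∈ cA T := by
        rw [← h.centralizer_eq hz hzT, Subgroup.mem_centralizer_singleton_iff]
        calc d⁻¹ * c * z = d⁻¹ * (c * z * c⁻¹) * c := by group
          _ = d⁻¹ * (d * z * d⁻¹) * c := by rw [h2]
          _ = z * (d⁻¹ * c) := by group
      have h7 : d⁻¹ * c * a = a * (d⁻¹ * c) := h.cA_comm _ h6 a ha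
      have h8 : c * a = a * c := Subgroup.mem_centralizer_singleton_iff.1 hc
      calc d * a = d * (a * (d⁻¹ * c)) * (c⁻¹ * d) := by group
        _ = d * (d⁻¹ * c * a) * (c⁻¹ * d) := by rw [h7]
        _ = (c * a) * c⁻¹ * d := by group
        _ = a * d := by rw [h8]; group
    set K := Subgroup.centralizer ({d} : Set G)
    have hKu : ∀ k ∈ K, u * k * u⁻¹ ∈ K := fun k hk => by
      rw [Subgroup.mem_centralizer_singleton_iff] at hk ⊢
      have h9 : d = u * d⁻¹ * u⁻¹ := by
        have := congrArg Inv.inv h4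
        rw [inv_inv, mul_inv_rev, mul_inv_rev, inv_inv] at this
        rw [mul_assoc]; exact this.symm
      rw [h9]
      calc u * k * u⁻¹ * (u * d⁻¹ * u⁻¹) = u * (k * d⁻¹) * u⁻¹ := by group
        _ = u * (d⁻¹ * k) * u⁻¹ := by
          rw [(show Commute k d from hk).inv_right.eq]
        _ = _ := by group
    have hfpf : ∀ k ∈ K, u * k * u⁻¹ = k → k = 1 := by
      intro k hk hku
      by_contra hk1
      obtain ⟨g, hg⟩ := isConj_iff.1 (h.isConj hz hu)
      have hk' : g⁻¹ * k * g ∈ cA T := by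
        rw [← h.centralizer_eq hz hzT, Subgroup.mem_centralizer_singleton_iff]
        calc g⁻¹ * k * g * z = g⁻¹ * (k * (g * z * g⁻¹)) * g := by group
          _ = g⁻¹ * ((g * z * g⁻¹) * k) * g := by
            rw [hg, ← mul_inv_eq_iff_eq_mul.1 hku]
          _ = z * (g⁻¹ * k * g) := by group
      have hk'1 : g⁻¹ * k * g ≠ 1 := fun e => hk1 (by
        have := congrArg (fun x => g * x * g⁻¹) e
        simpa [mul_assoc] using this)
      set d' := g⁻¹ * d * g with hd''
      have hdM : d' ∈ mM T := by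
        refine hcent _ hk' hk'1 (Subgroup.mem_centralizer_singleton_iff.2 ?_)
        calc d' * (g⁻¹ * k * g) = g⁻¹ * (d * k) * g := by rw [hd'']; group
          _ = g⁻¹ * (k * d) * g := by rw [Subgroup.mem_centralizer_singleton_iff.1 hk]
          _ = g⁻¹ * k * g * d' := by rw [hd'']; group
      have hzd : z * d' * z⁻¹ = d'⁻¹ := by
        have : d'⁻¹ = g⁻¹ * (u * d * u⁻¹) * g := by rw [h4, hd'']; group
        rw [this, ← hg, hd'']; group
      have hsq : (d' ^ 2)⁻¹ ∈ (T : Subgroup G) := by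
        have h10 : d' * z⁻¹ * d'⁻¹ ∈ (T : Subgroup G) :=
          (Subgroup.mem_normalizer_iff.1 hdM z⁻¹).1 (inv_mem hzT)
        have h11 := mul_mem hzT h10
        rw [show z * (d' * z⁻¹ * d'⁻¹) = (z * d' * z⁻¹) * d'⁻¹ by group, hzd] at h11
        rwa [pow_two, mul_inv_rev]
      obtain ⟨j, hj⟩ := IsPGroup.iff_orderOf.1 T.isPGroup' ⟨_, hsq⟩
      rw [Subgroup.orderOf_mk, orderOf_inv] at hj
      have hodd' : Odd (orderOf d') := by
        have : orderOf d' = orderOf d := by
          rw [hd'']; simpa using orderOf_conj' g⁻¹ d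
        rwa [this]
      have h12 : orderOf (d' ^ 2) = orderOf d' :=
        Nat.Coprime.orderOf_pow (Nat.coprime_two_right.2 hodd')
      rw [hj] at h12
      rcases Nat.eq_zero_or_pos j with rfl | hj0
      · refine hd1 ?_
        have h13 : d' = 1 := orderOf_eq_one_iff.1 (by simpa using h12.symm)
        have := congrArg (fun x => g * x * g⁻¹) h13
        simpa [hd'', mul_assoc] using this
      · exact hodd'.not_two_dvd_nat (h12 ▸ dvd_pow_self 2 hj0.ne')
    have hua : u * a * u⁻¹ = a⁻¹ :=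
      inverts_of_fpf (involution_mul_self hu) hKu hfpf a
        (Subgroup.mem_centralizer_singleton_iff.2 hda.symm)
    -- so `u` normalises `T`
    apply huM
    rw [← map_conj_eq_self_iff_mem_normalizer]
    apply Subgroup.eq_of_le_of_card_ge
    · rintro x ⟨s, hs, rfl⟩
      change u * s * u⁻¹ ∈ (T : Subgroup G)
      have hsa : s * a = a * s := Subgroup.mem_centralizer_iff.1 ha s hs
      have h14 : u * s * u⁻¹ ∈ Subgroup.centralizer ({a} : Set G) := by
        rw [Subgroup.mem_centralizer_singleton_iff]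
        have h15 : a = u * a⁻¹ * u⁻¹ := by
          have := congrArg Inv.inv hua
          rw [inv_inv, mul_inv_rev, mul_inv_rev, inv_inv] at this
          rw [mul_assoc]; exact this.symm
        rw [h15]
        calc u * s * u⁻¹ * (u * a⁻¹ * u⁻¹) = u * (s * a⁻¹) * u⁻¹ := by group
          _ = u * (a⁻¹ * s) * u⁻¹ := by rw [(show Commute s a from hsa).inv_right.eq]
          _ = _ := by group
      refine BSW.two_elt_mem (hcent a ha ha1 h14) ?_
      obtain ⟨k, hk⟩ := IsPGroup.iff_orderOf.1 T.isPGroup' ⟨s, hs⟩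
      refine IsPGroup.of_card (n := k) ?_
      rw [Nat.card_zpowers, orderOf_conj', ← hk, Subgroup.orderOf_mk]
    · rw [card_map_conj]
  have hTI : ∀ g : G, g ∉ mM T → ∀ a ∈ cA T, g * a * g⁻¹ ∈ cA T → a = 1 := by
    intro g hg a ha hga
    by_contra ha1
    apply hg
    rw [← map_conj_eq_self_iff_mem_normalizer]
    apply Subgroup.eq_of_le_of_card_ge
    · rintro x ⟨s, hs, rfl⟩
      change g * s * g⁻¹ ∈ (T : Subgroup G)
      have h1 : g * s * g⁻¹ ∈ Subgroup.centralizer ({g * a * g⁻¹} : Set G) := by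
        rw [Subgroup.mem_centralizer_singleton_iff]
        calc g * s * g⁻¹ * (g * a * g⁻¹) = g * (s * a) * g⁻¹ := by group
          _ = g * (a * s) * g⁻¹ := by rw [Subgroup.mem_centralizer_iff.1 ha s hs]
          _ = _ := by group
      have hne' : g * a * g⁻¹ ≠ 1 := fun e => ha1 (conj_eq_one_iff.1 e)
      refine BSW.two_elt_mem (hcent _ hga hne' h1) ?_
      obtain ⟨k, hk⟩ := IsPGroup.iff_orderOf.1 T.isPGroup' ⟨s, hs⟩
      refine IsPGroup.of_card (n := k) ?_
      rw [Nat.card_zpowers, orderOf_conj', ← hk, Subgroup.orderOf_mk]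
    · rw [card_map_conj]
  haveI : Fintype G := Fintype.ofFinite G
  have hcard := card_eq_of_ti (cA T) (mM T) (cA_le_mM T) (fun m hm a ha => conj_mem_cA hm ha)
    h.cA_comm hC hTI h.relIndex_eq (h.relIndex_eq ▸ h.odd_relIndex) h.two_le_involutions hz
    (h.T_le_cA hzT) rfl (fun x y hx hy => h.isConj hx hy) hM.1
  -- all elements of `C(T)` have square one
  by_contra hne
  have hsq1 : a₀ * a₀ ≠ 1 := fun e => hne (by rw [e]; exact one_mem _)
  set S := Finset.univ.filter (fun x : G => x ∈ cA T)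
  set S2 := Finset.univ.filter (fun x : G => x ∈ cA T ∧ orderOf x = 2)
  have hS : S.card = S2.card + 1 := by
    rw [Nat.card_eq_fintype_card, Nat.card_eq_fintype_card, Fintype.card_subtype,
      Fintype.card_subtype] at hcard
    exact hcard
  have hsub : insert a₀ (insert 1 S2) ⊆ S := by
    intro x hx
    simp only [Finset.mem_insert, S2, Finset.mem_filter, Finset.mem_univ, true_and] at hx
    rcases hx with rfl | rfl | hx
    · simp [S, ha₀]
    · simp [S]
    · simp [S, hx.1]
  have hc := Finset.card_le_card hsub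
  rw [Finset.card_insert_of_notMem (fun hm => by
      simp only [Finset.mem_insert, S2, Finset.mem_filter, Finset.mem_univ, true_and] at hm
      rcases hm with rfl | ⟨-, hm⟩
      · exact hsq1 (one_mul 1)
      · exact hsq1 (involution_mul_self hm)),
    Finset.card_insert_of_notMem (fun hm => by simp [S2] at hm), hS] at hc
  omega

/-- In a group with abelian involution centralisers, noncyclic non-normal Sylow 2-subgroup `T`,
squares of elements of `C(T)` are central. -/
theorem Setup.sq_mem_center {G : Type u} [Group G] [Finite G] {T : Sylow 2 G} (h : Setup T) :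
    ∀ a ∈ cA T, a * a ∈ Subgroup.center G :=
  sq_mem_center_aux _ G T rfl h

end Cfsg.Agent.InvAb
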